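import Groth.Agent.Lib.ProjCI.Tilde

/-!
# Cohomology of the twists of a complete intersection
-/

set_option autoImplicit false
universe u

open CategoryTheory CategoryTheory.Limits AlgebraicGeometry MvPolynomial
open Groth.Agent.Lib Groth.Agent.Lib.Curves.LES

noncomputable section

namespace Groth.Agent.Lib.ProjCI.Cohom

open Tilde Cone

variable {k : Type u} [Field k] {n r : ℕ} {a : Fin r → ℕ} {G : ∀ j : Fin r, LefPen.Form n k (a j)}

local notation "S" => MvPolynomial (Fin (n + 1)) k

omit [Field k] in
theorem T_congr {R : Type u} [Field R] {I J : Ideal (MvPolynomial (Fin (n + 1)) R)} (h : I = J) (m : ℤ) :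
    T I 0 m = T J 0 m := by subst h; rfl

theorem vanish_and_surjective (hreg : Reg G) :
    ∀ j : ℕ, j ≤ r → ∀ m : ℤ,
      (∀ p : ℕ, 0 < p → p + j < n → Subsingleton (Coh.HH (CohB1.ProjSpace n k) (T (pre G j) 0 m) p)) ∧
      (j + 1 ≤ n → Function.Surjective (mapK k (quotT (bot_le : (⊥ : Ideal S) ≤ pre G j) m) 0)) := by
  intro j
  induction j with
  | zero =>
    intro _ m
    constructor
    · intro p hp hpn
      haveI := ProjCoh.Twist.subsingleton_HH_of_ne n k m (q := p) (by omega) (by omega)
      exact (isoK k (botIso (k := k) (n := n) m ≪≫ eqToIso (T_congr (pre_zero G).symm m)) p).symm.injective.subsingleton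
    · intro _
      have : ∀ (J : Ideal S) (h : (⊥ : Ideal S) ≤ J), J = ⊥ →
          Function.Surjective (mapK k (quotT h m) 0) := by
        rintro J h rfl
        rw [quotT_self, mapK_id]
        exact Function.surjective_id
      exact this _ _ (pre_zero G)
  | succ j ih =>
    intro hj m
    have hjr : j < r := by omega
    let g : S := (G ⟨j, hjr⟩).1
    let d := a ⟨j, hjr⟩
    obtain ⟨f, w, hS⟩ := exists_ses (I := pre G j) (g := g) (d := d) (pre_hom G j) (form_isHomogeneous _)
      (fun i x hx h => hreg j hjr i x hx h) m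
    have h1 : ∀ p, 0 < p → p + j < n →
        Subsingleton (Coh.HH (CohB1.ProjSpace n k) (T (pre G j) d m) p) := fun p hp hpn => by
      haveI := (ih (by omega) (m - d)).1 p hp hpn
      exact (isoK k (shiftIso (pre G j) d m) p).injective.subsingleton
    have hsurj : ∀ q : ℕ, q + 1 + j < n → ∀ x, ∃ y,
        mapK k (quotT (le_sup_left : pre G j ≤ pre G j ⊔ Ideal.span {g}) m) q y = x := fun q hq x => by
      refine ((exactK₃ k hS q (q + 1) rfl) x).1 ?_
      exact @Subsingleton.elim _ (h1 (q + 1) (Nat.succ_pos q) hq) _ _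
    have hmain : ∀ (J : Ideal S) (h : (⊥ : Ideal S) ≤ J), J = pre G j ⊔ Ideal.span {g} →
        (∀ p : ℕ, 0 < p → p + (j + 1) < n → Subsingleton (Coh.HH (CohB1.ProjSpace n k) (T J 0 m) p)) ∧
        (j + 1 + 1 ≤ n → Function.Surjective (mapK k (quotT h m) 0)) := by
      rintro J h rfl
      constructor
      · intro p hp hpn
        refine subsingleton_of_forall_eq 0 fun x => ?_
        obtain ⟨y, rfl⟩ := hsurj p (by omega) x
        haveI := (ih (by omega) m).1 p hp (by omega)
        rw [Subsingleton.elim y 0, map_zero]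
      · intro hn x
        obtain ⟨y, rfl⟩ := hsurj 0 (by omega) x
        obtain ⟨z, rfl⟩ := (ih (by omega) m).2 (by omega) y
        refine ⟨z, ?_⟩
        rw [← LinearMap.comp_apply, ← mapK_comp, quotT_comp]
    exact hmain _ _ (pre_succ G hjr)

theorem subsingleton_full (hreg : Reg G)
    (m : ℤ) (p : ℕ) (hp : 0 < p) (hpn : p < n - r) :
    Subsingleton (Coh.HH (CohB1.ProjSpace n k) (T (full G) 0 m) p) := by
  haveI := (vanish_and_surjective hreg r le_rfl m).1 p hp (by omega)
  exact (isoK k (eqToIso (T_congr (pre_self G).symm m)) p).injective.subsingleton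

theorem surjective_full (hreg : Reg G)
    (h1 : 1 ≤ n - r) (m : ℤ) :
    Function.Surjective (mapK k (quotT (bot_le : (⊥ : Ideal S) ≤ full G) m) 0) := by
  have : ∀ (J : Ideal S) (h : (⊥ : Ideal S) ≤ J), J = pre G r →
      Function.Surjective (mapK k (quotT h m) 0) := by
    rintro J h rfl
    exact (vanish_and_surjective hreg r le_rfl m).2 (by omega)
  exact this _ _ (pre_self G).symm

end Groth.Agent.Lib.ProjCI.Cohom
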