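import Groth.Prelude.Def_LefPen
import Groth.Agent.Lib.ProjDim.Cut
import Groth.Agent.Lib.Synt92.FieldSeq
import Groth.Agent.Lib.LefPen45.HypSheaf
import Groth.Agent.Lib.ProjTilde.QCoh

/-!
# The affine cone of a complete intersection in projective space
-/

set_option autoImplicit false
universe u

open CategoryTheory AlgebraicGeometry TopologicalSpace MvPolynomial
open Groth.Agent.Lib.ProjDim.Graded Groth.Agent.Lib.ProjDim.Topology Groth.Agent.Lib.Dim.Basic

namespace Groth.Agent.Lib.ProjCI.Cone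

variable {k : Type u} [Field k] {n r : ℕ} {a : Fin r → ℕ} (G : ∀ j : Fin r, LefPen.Form n k (a j))

local notation "S" => MvPolynomial (Fin (n + 1)) k
local notation "ℙ" => ProjectiveSpectrum (CohB1.polyGrading n k)

/-- The ideal of the first `j` forms. -/
noncomputable def pre (j : ℕ) : Ideal (MvPolynomial (Fin (n + 1)) k) :=
  Ideal.span {f | ∃ l : Fin r, l.1 < j ∧ f = (G l).1}

/-- The ideal of all the forms. -/
noncomputable def full : Ideal (MvPolynomial (Fin (n + 1)) k) := Ideal.span (Set.range fun l => (G l).1)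

theorem pre_zero : pre G 0 = ⊥ := by
  simp [pre]

theorem pre_succ {j : ℕ} (hj : j < r) : pre G (j + 1) = pre G j ⊔ Ideal.span {(G ⟨j, hj⟩).1} := by
  rw [pre, pre, ← Ideal.span_union]
  congr 1
  ext f
  constructor
  · rintro ⟨l, hl, rfl⟩
    rcases Nat.lt_succ_iff_lt_or_eq.1 hl with h | h
    · exact Or.inl ⟨l, h, rfl⟩
    · obtain rfl : l = ⟨j, hj⟩ := Fin.ext h
      exact Or.inr rfl
  · rintro (⟨l, hl, rfl⟩ | rfl)
    · exact ⟨l, by omega, rfl⟩
    · exact ⟨⟨j, hj⟩, Nat.lt_succ_self _, rfl⟩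

theorem pre_self : pre G r = full G := by
  rw [pre, full]
  congr 1
  ext f
  exact ⟨fun ⟨l, _, h⟩ => ⟨l, h.symm⟩, fun ⟨l, h⟩ => ⟨l, l.2, h.symm⟩⟩

theorem form_isHomogeneous {d : ℕ} (F : LefPen.Form n k d) : (F.1 : S).IsHomogeneous d :=
  (mem_homogeneousSubmodule d _).1 F.2

theorem form_mem_irr {d : ℕ} (hd : 1 ≤ d) (F : LefPen.Form n k d) : (F.1 : S) ∈ irr n k :=
  mem_irr_of_isHomogeneous (form_isHomogeneous F) hd

theorem pre_hom (j : ℕ) : (pre G j).IsHomogeneous (CohB1.polyGrading n k) :=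
  span_isHomogeneous fun _ ⟨l, _, h⟩ => ⟨a l, h ▸ form_isHomogeneous (G l)⟩

theorem full_hom : (full G).IsHomogeneous (CohB1.polyGrading n k) :=
  pre_self G ▸ pre_hom G r

theorem pre_le_irr (ha : ∀ j, 1 ≤ a j) (j : ℕ) : pre G j ≤ irr n k :=
  Ideal.span_le.2 fun _ ⟨l, _, h⟩ => h ▸ form_mem_irr (ha l) (G l)

/-- The points where all forms vanish. -/
def zeros : Set ℙ := {x | ∀ l, ((G l).1 : S) ∈ idl x}

theorem isClosed_zeros : IsClosed (zeros G) := by
  have : zeros G = ProjectiveSpectrum.zeroLocus (CohB1.polyGrading n k) (Set.range fun l => (G l).1) := by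
    ext x
    change _ ↔ Set.range (fun l => (G l).1) ⊆ (idl x : Set _)
    exact ⟨fun h f ⟨l, hl⟩ => hl ▸ h l, fun h l => h ⟨l, rfl⟩⟩
  rw [this]
  exact ProjectiveSpectrum.isClosed_zeroLocus _ _

omit G in
theorem mem_basicOpen_dehom {d : ℕ} (F : LefPen.Form n k d) (i : Fin (n + 1))
    (x : CohB1.ProjSpace n k) (hx : x ∈ LefPen.chart n k i) :
    x ∈ (CohB1.ProjSpace n k).basicOpen (LefPen.dehom F i) ↔ (F.1 : S) ∉ idl x := by
  have h := ProjTilde.QCoh.basicOpen_awayToSection (𝒜 := CohB1.polyGrading n k) (LefPen.X_mem n k i) d F.1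
    (by rw [smul_eq_mul, mul_one]; exact F.2)
  rw [show (CohB1.ProjSpace n k).basicOpen (LefPen.dehom F i) =
    Proj.basicOpen (CohB1.polyGrading n k) (MvPolynomial.X i * F.1) from h]
  change _ ∉ idl x ↔ _
  constructor
  · exact fun h1 h2 => h1 (Ideal.mul_mem_left _ _ h2)
  · exact fun h1 h2 => (x.isPrime.mem_or_mem h2).elim hx h1

theorem ciIdeal_chart (i : Fin (n + 1)) :
    (LefPen.ciIdeal G).ideal (LefPen45.HypSheaf.chartAff k i) =
      Ideal.span (Set.range fun l => LefPen.dehom (G l) i) := by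
  rw [LefPen.ciIdeal, Scheme.IdealSheafData.ideal_iSup, iSup_apply, Ideal.span_range_eq_iSup]
  exact iSup_congr fun l => LefPen45.HypSheaf.hypIdeal_chart (G l) i

omit G in
theorem exists_chart (x : CohB1.ProjSpace n k) : ∃ i, x ∈ LefPen.chart n k i := by
  by_contra hc
  simp only [not_exists] at hc
  refine x.not_irrelevant_le fun f hf => ?_
  have hle : irr n k ≤ idl x := by
    intro g hg
    rw [g.as_sum]
    refine Ideal.sum_mem _ fun e he => ?_
    obtain ⟨j, hj⟩ : ∃ j, e j ≠ 0 := by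
      by_contra h0
      simp only [not_exists, not_not] at h0
      rw [show e = 0 from Finsupp.ext h0] at he
      exact (MvPolynomial.mem_support_iff.1 he) hg
    have hXj : (MvPolynomial.X j : S) ∈ idl x := not_not.1 (hc j)
    obtain ⟨c, hcc⟩ := (MvPolynomial.X_dvd_monomial (r := coeff e g)).2 (Or.inr hj)
    rw [hcc]
    exact Ideal.mul_mem_right _ _ hXj
  exact hle (ProjDim.Topology.mem_irrelevant.1 hf)

theorem support_eq :
    ((LefPen.ciIdeal G).support : Set (CohB1.ProjSpace n k)) = zeros G := by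
  ext x
  obtain ⟨i, hi⟩ := exists_chart x
  rw [SetLike.mem_coe,
    Scheme.IdealSheafData.mem_support_iff_of_mem (U := LefPen45.HypSheaf.chartAff k i) hi,
    ciIdeal_chart, Scheme.zeroLocus_span, Scheme.mem_zeroLocus_iff]
  constructor
  · intro h l
    by_contra hl
    exact h _ ⟨l, rfl⟩ ((mem_basicOpen_dehom (G l) i x hi).2 hl)
  · rintro h _ ⟨l, rfl⟩ hm
    exact (mem_basicOpen_dehom (G l) i x hi).1 hm (h l)

theorem dim_zeros :
    topologicalKrullDim ↥(LefPen.ciIdeal G).subscheme = topologicalKrullDim ↥(zeros G) := by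
  have he := (LefPen.ciIdeal G).subschemeι.isClosedEmbedding.isEmbedding.toHomeomorph
  refine le_antisymm ?_ ?_
  all_goals
    have hr : Set.range (LefPen.ciIdeal G).subschemeι = zeros G :=
      ((LefPen.ciIdeal G).range_subschemeι).trans (support_eq G)
  · exact (IsHomeomorph.topologicalKrullDim_eq _
      (he.trans (Homeomorph.setCongr hr)).isHomeomorph).le
  · exact (IsHomeomorph.topologicalKrullDim_eq _
      (he.trans (Homeomorph.setCongr hr)).isHomeomorph).ge

omit G in
theorem component_mul (p : S) {x : S} {i : ℕ} (hx : x.IsHomogeneous i) :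
    homogeneousComponent i (p * x) = C (coeff 0 p) * x := by
  conv_lhs => rw [← sum_homogeneousComponent p]
  rw [Finset.sum_mul, map_sum, Finset.sum_eq_single 0]
  · rw [homogeneousComponent_zero, homogeneousComponent_C_mul, homogeneousComponent_eq_self hx]
  · intro m _ hm
    rw [homogeneousComponent_of_mem ((homogeneousComponent_isHomogeneous m p).mul hx), if_neg (by omega)]
  · intro h0
    exact absurd (Finset.mem_range.2 (Nat.succ_pos _)) h0

variable {G}

theorem dp_le (hdim : topologicalKrullDim ↥(LefPen.ciIdeal G).subscheme ≤ ((n - r : ℕ) : WithBot ℕ∞))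
    {x : ℙ} (hx : x ∈ zeros G) : dp x ≤ n - r := by
  rw [dim_zeros] at hdim
  exact_mod_cast (le_dim (isClosed_zeros G) hx).trans hdim

theorem dimQ_minimal_le (ha : ∀ j, 1 ≤ a j) (hr : r ≤ n)
    (hdim : topologicalKrullDim ↥(LefPen.ciIdeal G).subscheme ≤ ((n - r : ℕ) : WithBot ℕ∞))
    {P : Ideal S} (hP : P ∈ (full G).minimalPrimes) : dimQ k P ≤ n + 1 - r := by
  haveI := hP.1.1
  by_cases h0 : 1 ≤ dimQ k P
  · have hh := minimalPrimes_isHomogeneous (full_hom G) hP
    let x : ℙ := mkPt P hP.1.1 hh h0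
    have hx : x ∈ zeros G := fun l => by
      rw [idl_mkPt P hP.1.1 hh h0]
      exact hP.1.2 (Ideal.subset_span ⟨l, rfl⟩)
    have := dp_le hdim hx
    have h1 : dp x + 1 = dimQ k P := (dp_add_one x).trans (by rw [idl_mkPt P hP.1.1 hh h0])
    omega
  · omega

theorem ringKrullDim_full (ha : ∀ j, 1 ≤ a j) (hr : r ≤ n)
    (hdim : topologicalKrullDim ↥(LefPen.ciIdeal G).subscheme ≤ ((n - r : ℕ) : WithBot ℕ∞)) :
    ringKrullDim (S ⧸ full G) ≤ ((n + 1 - r : ℕ) : WithBot ℕ∞) := by
  rw [show ringKrullDim (S ⧸ full G) = Order.krullDim (PrimeSpectrum.zeroLocus ((full G : Ideal S) : Set S)) from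
    ringKrullDim_quotient _]
  refine iSup_le fun l => ?_
  obtain ⟨P, hP, hle⟩ := Ideal.exists_minimalPrimes_le
    (J := l.head.1.asIdeal) (I := full G) (fun f hf => l.head.2 hf)
  haveI := hP.1.1
  have key : ∀ i, (l i).1.asIdeal ∈ {Q : Ideal S | P ≤ Q} := fun i =>
    hle.trans (show l.head ≤ l i from LTSeries.head_le l i)
  let m : LTSeries (PrimeSpectrum.zeroLocus ((P : Ideal S) : Set S)) :=
    { length := l.length
      toFun := fun i => ⟨(l i).1, key i⟩
      step := fun i => l.step i }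
  refine (Order.LTSeries.length_le_krullDim m).trans ?_
  rw [← ringKrullDim_quotient, ringKrullDim_quotient_prime k P]
  exact_mod_cast dimQ_minimal_le ha hr hdim hP

/-- The forms form a regular sequence in the graded sense. -/
theorem mem_of_mul_mem (ha : ∀ j, 1 ≤ a j) (hr : r ≤ n)
    (hdim : topologicalKrullDim ↥(LefPen.ciIdeal G).subscheme ≤ ((n - r : ℕ) : WithBot ℕ∞))
    (j : ℕ) (hj : j < r) {i : ℕ} {x : S} (hx : x.IsHomogeneous i)
    (h : (G ⟨j, hj⟩).1 * x ∈ pre G j) : x ∈ pre G j := by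
  let rs : List S := List.ofFn fun l => (G l).1
  have hfull : Ideal.ofList rs = full G := by
    rw [Ideal.ofList, full]
    congr 1
    ext f
    simp [rs, List.mem_ofFn]
  haveI := irr_isMaximal (n := n) (k := k)
  haveI : (irr n k).IsPrime := Ideal.IsMaximal.isPrime inferInstance
  let B := Localization.AtPrime (irr n k)
  have hlen : rs.length = r := List.length_ofFn
  have hreg := Synt92.FieldSeq.isRegular rs (by omega)
    (by rw [hfull]; simp only [hlen]; exact ringKrullDim_full ha hr hdim) (irr n k)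
    (by rw [hfull, ← pre_self]; exact pre_le_irr G ha r) B
  have hw := (RingTheory.Sequence.isWeaklyRegular_iff_Fin B _).1 hreg.toIsWeaklyRegular
    ⟨j, by rw [List.length_map, hlen]; exact hj⟩
  have htake : Ideal.ofList ((rs.map (algebraMap S B)).take j) = (pre G j).map (algebraMap S B) := by
    rw [← List.map_take, ← Ideal.map_ofList]
    congr 1
    rw [Ideal.ofList, pre]
    congr 1
    ext f
    simp only [Set.mem_setOf_eq, rs, List.mem_take_iff_getElem, List.getElem_ofFn, List.length_ofFn]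
    constructor
    · rintro ⟨l, hl, rfl⟩
      exact ⟨⟨l, lt_of_lt_of_le hl (min_le_right _ _)⟩, lt_of_lt_of_le hl (min_le_left _ _), rfl⟩
    · rintro ⟨l, hl, rfl⟩
      exact ⟨l, by omega, rfl⟩
  have hget : (rs.map (algebraMap S B))[j]'(by rw [List.length_map, hlen]; exact hj) =
      algebraMap S B (G ⟨j, hj⟩).1 := by simp [rs]
  simp only [Fin.getElem_fin, hget] at hw
  rw [htake] at hw
  have hmem : algebraMap S B x ∈ (pre G j).map (algebraMap S B) := by
    rw [← Ideal.Quotient.eq_zero_iff_mem]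
    have := hw (a₁ := Submodule.Quotient.mk (algebraMap S B x)) (a₂ := 0) (by
      change algebraMap S B (G ⟨j, hj⟩).1 • Submodule.Quotient.mk (algebraMap S B x) =
        algebraMap S B (G ⟨j, hj⟩).1 • 0
      rw [smul_zero, ← Submodule.Quotient.mk_smul, Submodule.Quotient.mk_eq_zero, Ideal.smul_eq_mul, Ideal.mul_top]
      rw [smul_eq_mul, ← map_mul]
      exact Ideal.mem_map_of_mem _ h)
    rw [Submodule.Quotient.mk_eq_zero, Ideal.smul_eq_mul, Ideal.mul_top] at this
    exact Ideal.Quotient.eq_zero_iff_mem.2 this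
  obtain ⟨⟨y, u⟩, hu⟩ := (IsLocalization.mem_map_algebraMap_iff (irr n k).primeCompl B).1 hmem
  rw [← map_mul] at hu
  obtain ⟨c, hc⟩ := (IsLocalization.eq_iff_exists (irr n k).primeCompl B).1 hu
  have hux : (c.1 * u.1) * x ∈ pre G j := by
    have : c.1 * u.1 * x = c.1 * y.1 := by
      have e : (c : S) * (x * (u : S)) = (c : S) * y.1 := hc
      rw [← e]; ring
    rw [this]
    exact Ideal.mul_mem_left _ _ y.2
  have hc0 : coeff 0 (c.1 * u.1) ≠ 0 := fun h0 => (c * u).2 (mem_irr.2 h0)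
  have hcomp := component_mem (pre_hom G j) hux i
  rw [component_mul _ hx] at hcomp
  have := Ideal.mul_mem_left (pre G j) (C (coeff 0 (c.1 * u.1))⁻¹) hcomp
  rwa [← mul_assoc, ← map_mul, inv_mul_cancel₀ hc0, map_one, one_mul] at this

variable (G) in
/-- The forms are a regular sequence, tested on homogeneous polynomials. -/
def Reg : Prop :=
  ∀ (j : ℕ) (hj : j < r) (i : ℕ) (x : S), x.IsHomogeneous i → (G ⟨j, hj⟩).1 * x ∈ pre G j → x ∈ pre G j

theorem reg_of_dim (ha : ∀ j, 1 ≤ a j) (hr : r ≤ n)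
    (hdim : topologicalKrullDim ↥(LefPen.ciIdeal G).subscheme ≤ ((n - r : ℕ) : WithBot ℕ∞)) : Reg G :=
  fun j hj _ _ hx h => mem_of_mul_mem ha hr hdim j hj hx h

end Groth.Agent.Lib.ProjCI.Cone
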