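import Groth.Agent.Lib.ProjCI.Cohom
import Groth.Agent.Lib.Exchange.Thick.Unit
import Groth.Agent.Lib.QCoh.Stalk

/-!
# `(S/(G))(m)~ ≅ ι_* ι^* O(m)` on a complete intersection
-/

set_option autoImplicit false
universe u

open CategoryTheory CategoryTheory.Limits AlgebraicGeometry MvPolynomial TopologicalSpace Opposite
open Groth.Agent.Lib Groth.Agent.Lib.Modules.StalkModule Groth.Agent.Lib.CohBasics.Affine

noncomputable section

namespace Groth.Agent.Lib.ProjCI.Ident

open Tilde Cone

/-- A morphism out of a quasi-coherent module vanishing on an affine cover is zero. -/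
theorem hom_eq_zero {X : Scheme.{u}} {M N : X.Modules} [M.IsQuasicoherent] (φ : M ⟶ N) {J : Type*}
    (U : J → X.Opens) (hU : ∀ j, IsAffineOpen (U j)) (hc : ∀ x : X, ∃ j, x ∈ U j)
    (h : ∀ j (s : Γ(M, U j)), φ.app (U j) s = 0) : φ = 0 := by
  refine SheafOfModules.Hom.ext (PresheafOfModules.hom_ext fun V => ?_)
  ext s
  refine TopCat.Presheaf.section_ext (⟨N.presheaf, N.isSheaf⟩ : TopCat.Sheaf Ab X) V.unop _ _ fun x hx => ?_
  obtain ⟨j, hj⟩ := hc x
  obtain ⟨f, t, hf, ht⟩ := QCoh.Stalk.exists_smul_eq_germ M (hU j) hj (M.presheaf.germ V.unop x hx s)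
  have hu : IsUnit (X.presheaf.germ (U j) x hj f) := (Scheme.mem_basicOpen X f x hj).1 hf
  have h1 : stalkMapₗ φ x (X.presheaf.germ (U j) x hj f • M.presheaf.germ V.unop x hx s) = 0 := by
    rw [ht, stalkMapₗ_germ, h j t, map_zero]
  rw [map_smul, hu.smul_eq_zero] at h1
  erw [stalkMapₗ_germ] at h1
  exact h1.trans (map_zero (N.presheaf.germ V.unop x hx).hom).symm

variable {k : Type u} [Field k] {n r : ℕ} {a : Fin r → ℕ} {G : ∀ j : Fin r, LefPen.Form n k (a j)}

local notation "S" => MvPolynomial (Fin (n + 1)) k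
local notation "𝒢" => CohB1.polyGrading n k

/-- `O(m) ⟶ (S/I)(m)~`. -/
def π (I : Ideal (MvPolynomial (Fin (n + 1)) k)) (m : ℤ) : Twist.twistProjSpace n k m ⟶ T I 0 m :=
  (ProjCoh.Coherent.twIso (n := n) (R := k) m).hom ≫ (botIso m).hom ≫ quotT bot_le m

theorem epi_and_qcoh (hreg : Reg G) :
    ∀ j : ℕ, j ≤ r → ∀ m : ℤ, Epi (quotT (bot_le : (⊥ : Ideal S) ≤ pre G j) m) ∧
      (T (pre G j) 0 m).IsQuasicoherent := by
  intro j
  induction j with
  | zero =>
    intro _ m
    have : ∀ (J : Ideal S) (h : (⊥ : Ideal S) ≤ J), J = ⊥ → Epi (quotT h m) ∧ (T J 0 m).IsQuasicoherent := by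
      rintro J h rfl
      refine ⟨by rw [quotT_self]; infer_instance, ?_⟩
      exact (SheafOfModules.isQuasicoherent (CohB1.ProjSpace n k).ringCatSheaf).prop_of_iso (botIso (k := k) (n := n) m) (ProjTilde.QCoh.tilde_isQCoh m)
    exact this _ _ (pre_zero G)
  | succ j ih =>
    intro hj m
    have hjr : j < r := by omega
    obtain ⟨f, w, hS⟩ := exists_ses (I := pre G j) (g := (G ⟨j, hjr⟩).1) (d := a ⟨j, hjr⟩) (pre_hom G j)
      (form_isHomogeneous _) (fun i x hx h => hreg j hjr i x hx h) m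
    have hmain : ∀ (J : Ideal S) (h : (⊥ : Ideal S) ≤ J), J = pre G j ⊔ Ideal.span {(G ⟨j, hjr⟩).1} →
        Epi (quotT h m) ∧ (T J 0 m).IsQuasicoherent := by
      rintro J h rfl
      haveI : Epi (quotT (le_sup_left : pre G j ≤ pre G j ⊔ Ideal.span {(G ⟨j, hjr⟩).1}) m) := hS.epi_g
      haveI := (ih (by omega) m).1
      refine ⟨by rw [← quotT_comp bot_le le_sup_left]; infer_instance, ?_⟩
      haveI := (ih (by omega) m).2
      haveI := (ih (by omega) (m - a ⟨j, hjr⟩)).2
      haveI : (T (pre G j) (a ⟨j, hjr⟩) m).IsQuasicoherent :=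
        (SheafOfModules.isQuasicoherent (CohB1.ProjSpace n k).ringCatSheaf).prop_of_iso (shiftIso (pre G j) (a ⟨j, hjr⟩) m).symm this
      exact (SheafOfModules.isQuasicoherent (CohB1.ProjSpace n k).ringCatSheaf).prop_of_iso
        (IsColimit.coconePointUniqueUpToIso (cokernelIsCokernel f) hS.gIsCokernel) (QCoh.Closure.isQCoh_cokernel f)
    exact hmain _ _ (pre_succ G hjr)

theorem π_val (I : Ideal (MvPolynomial (Fin (n + 1)) k)) (m : ℤ) {U : (CohB1.ProjSpace n k).Opens}
    (σ : Γ(ProjCoh.Sections.TS n k m, U)) (x : U) :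
    (((((botIso (k := k) (n := n) m).hom ≫ quotT (bot_le : ⊥ ≤ I) m).app U σ : GrTilde.sect 𝒢 (piece I 0) m (op U))).1 x).1 =
      ProjTildeExact.locMap (Submodule.mkQ I) x.1 (((σ : GrTilde.sect 𝒢 𝒢 m (op U)).1 x).1) := by
  refine (ProjTildeExact.locMap_comp_apply _ _ x.1 _).trans ?_
  exact congrArg (fun φ => ProjTildeExact.locMap φ x.1 _) (LinearMap.ext fun _ => rfl)

theorem val_dehom_smul {d : ℕ} (F : LefPen.Form n k d) (i : Fin (n + 1)) (m : ℤ)
    (τ : Γ(ProjCoh.Sections.TS n k m, LefPen.chart n k i)) (x : LefPen.chart n k i) :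
    ((((LefPen.dehom F i) • τ : Γ(ProjCoh.Sections.TS n k m, LefPen.chart n k i)) :
        GrTilde.sect 𝒢 𝒢 m (op (LefPen.chart n k i))).1 x).1 =
      (Localization.mk F.1 ⟨(MvPolynomial.X i) ^ d, fun h => x.2 (x.1.isPrime.mem_of_pow_mem d h)⟩ :
          Twist.Loc 𝒢 x.1) • (((τ : GrTilde.sect 𝒢 𝒢 m (op (LefPen.chart n k i))).1 x).1) := rfl

theorem exists_pow_mul_mem (I : Ideal (MvPolynomial (Fin (n + 1)) k)) (hI : I.IsHomogeneous 𝒢) {e : ℕ}
    {p : S} (hp : p.IsHomogeneous e) (i : Fin (n + 1))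
    (h : ∀ x : ProjectiveSpectrum 𝒢, x ∈ LefPen.chart n k i → ∃ u : S, u ∉ x.asHomogeneousIdeal ∧ u * p ∈ I) :
    ∃ N, (MvPolynomial.X i : S) ^ N * p ∈ I := by
  let C : Ideal S :=
    { carrier := {u | u * p ∈ I}
      add_mem' := fun {u v} hu hv => by
        change (u + v) * p ∈ I
        rw [add_mul]
        exact add_mem hu hv
      zero_mem' := by simp
      smul_mem' := fun c u hu => by
        change c * u * p ∈ I
        rw [mul_assoc]
        exact I.mul_mem_left c hu }
  have hC : C.IsHomogeneous 𝒢 := fun q u hu => by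
    rw [ProjDim.Graded.decompose_apply]
    change homogeneousComponent q u * p ∈ I
    have := ProjDim.Graded.component_mem hI (show u * p ∈ I from hu) (e + q)
    rwa [mul_comm u p, component_mul_left hp, if_pos (Nat.le_add_right e q), Nat.add_sub_cancel_left, mul_comm] at this
  suffices hX : (MvPolynomial.X i : S) ∈ C.radical from hX
  rw [Ideal.radical_eq_sInf, Ideal.mem_sInf]
  intro P hP
  by_contra hXP
  haveI := hP.2
  obtain ⟨Q, hQ, hQP⟩ := Ideal.exists_minimalPrimes_le (I := C) (J := P) hP.1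
  have hXQ : (MvPolynomial.X i : S) ∉ Q := fun hh => hXP (hQP hh)
  haveI := hQ.1.1
  let x : ProjectiveSpectrum 𝒢 := ⟨⟨Q, ProjDim.Graded.minimalPrimes_isHomogeneous hC hQ⟩, hQ.1.1, fun hle =>
    hXQ (hle ((HomogeneousIdeal.mem_irrelevant_iff _ _).2 (by
      rw [GradedRing.proj_apply, ProjDim.Graded.decompose_apply,
        homogeneousComponent_zero, coeff_zero_X, map_zero])))⟩
  obtain ⟨u, hu, hup⟩ := h x hXQ
  exact hu (hQ.1.2 hup)

theorem smul_eq_zero_of_mem (I : Ideal (MvPolynomial (Fin (n + 1)) k)) (x : ProjectiveSpectrum 𝒢) {g : S} (hg : g ∈ I)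
    (t : x.asHomogeneousIdeal.toIdeal.primeCompl) (q : GrTilde.LocMod 𝒢 (M := S ⧸ I) x) :
    (Localization.mk g t : Twist.Loc 𝒢 x) • q = 0 := by
  induction q using LocalizedModule.induction_on with
  | h z s =>
    obtain ⟨z, rfl⟩ := Ideal.Quotient.mk_surjective z
    have h0 : g • Ideal.Quotient.mk I z = 0 :=
      (smul_mk g z).trans (Ideal.Quotient.eq_zero_iff_mem.2 (Ideal.mul_mem_right z I hg))
    exact (LocalizedModule.mk_smul_mk g (Ideal.Quotient.mk I z) t s).trans
      ((congrArg (fun w => LocalizedModule.mk w (t * s)) h0).trans (LocalizedModule.zero_mk _))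

theorem π_app_eq_zero_iff (m : ℤ) (i : Fin (n + 1))
    (σ : Γ(ProjCoh.Sections.TS n k m, LefPen.chart n k i)) :
    ((botIso (k := k) (n := n) m).hom ≫ quotT (bot_le : ⊥ ≤ full G) m).app (LefPen.chart n k i) σ = 0 ↔
      σ ∈ Ideal.span (Set.range fun l => LefPen.dehom (G l) i) •
        (⊤ : Submodule Γ(CohB1.ProjSpace n k, LefPen.chart n k i) Γ(ProjCoh.Sections.TS n k m, LefPen.chart n k i)) := by
  constructor
  · intro hσ
    obtain ⟨e, b, p, hp, hb, hval⟩ := ProjTilde.Frac.exists_frac_basicOpen (𝒜 := 𝒢) (ℳ := 𝒢) one_pos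
      (LefPen.X_mem n k i) (σ : GrTilde.sect 𝒢 𝒢 m (op (ProjectiveSpectrum.basicOpen 𝒢 (MvPolynomial.X i))))
    have hpm : (p : S).IsHomogeneous b := (mem_homogeneousSubmodule _ _).1 hp
    obtain ⟨N, hN⟩ := exists_pow_mul_mem (full G) (full_hom G) hpm i fun x hx => by
      have hxe : (MvPolynomial.X i : S) ^ e ∉ x.asHomogeneousIdeal := fun h => hx (x.isPrime.mem_of_pow_mem e h)
      have h0 := congrArg (fun τ : GrTilde.sect 𝒢 (piece (full G) 0) m (op (LefPen.chart n k i)) =>
        (τ.1 ⟨x, hx⟩).1) hσ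
      have h1 : ProjTildeExact.locMap (Submodule.mkQ (full G)) x (LocalizedModule.mk p ⟨_, hxe⟩) = 0 := by
        rw [← hval ⟨x, hx⟩ hxe]
        exact (π_val (full G) m σ ⟨x, hx⟩).symm.trans h0
      obtain ⟨w, hw, hw0⟩ := ProjTildeExact.exists_kill _ h1
      refine ⟨w, hw, Ideal.Quotient.eq_zero_iff_mem.1 ?_⟩
      exact hw0
    obtain ⟨c, hc⟩ := (Ideal.mem_span_range_iff_exists_fun).1 hN
    let c' : Fin r → S := fun l =>
      if a l ≤ N + b then homogeneousComponent (N + b - a l) (c l) * (MvPolynomial.X i) ^ a l else 0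
    have hc' : ∀ l, c' l ∈ 𝒢 (N + b) := fun l => by
      simp only [c']
      split
      case isTrue h =>
        refine (mem_homogeneousSubmodule _ _).2 ?_
        have := (homogeneousComponent_isHomogeneous (N + b - a l) (c l)).mul (isHomogeneous_X_pow (R := k) i (a l))
        rwa [Nat.sub_add_cancel h] at this
      case isFalse => exact Submodule.zero_mem _
    let τ : Fin r → Γ(ProjCoh.Sections.TS n k m, LefPen.chart n k i) := fun l =>
      ProjTilde.Frac.fracSec (ℳ := 𝒢) (LefPen.chart n k i) (j := N + e) (s := (MvPolynomial.X i) ^ (N + e)) (a := c' l)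
        (by simpa using SetLike.pow_mem_graded (N + e) (LefPen.X_mem n k i))
        (ProjTilde.Frac.Deg.of_mem (hc' l) (Or.inl (by push_cast; omega)))
        (fun x hx => fun hh => hx (x.isPrime.mem_of_pow_mem _ hh))
    have hsum : σ = ∑ l, LefPen.dehom (G l) i • τ l := by
      refine ProjTilde.Frac.sect_ext fun x => ?_
      have hXe : (MvPolynomial.X i : S) ^ e ∉ x.1.asHomogeneousIdeal := fun h => x.2 (x.1.isPrime.mem_of_pow_mem e h)
      refine (hval x hXe).trans ?_
      haveI := x.1.isPrime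
      let ev : Γ(ProjCoh.Sections.TS n k m, LefPen.chart n k i) →+ GrTilde.LocMod 𝒢 (M := S) x.1 :=
        AddMonoidHom.mk' (fun ρ => ((ρ : GrTilde.sect 𝒢 𝒢 m (op (LefPen.chart n k i))).1 x).1) (fun _ _ => rfl)
      change _ = ev (∑ l, LefPen.dehom (G l) i • τ l)
      rw [map_sum]
      have hXNe : (MvPolynomial.X i : S) ^ (N + e) ∈ x.1.asHomogeneousIdeal.toIdeal.primeCompl :=
        fun h => x.2 (x.1.isPrime.mem_of_pow_mem (N + e) h)
      have hterm : ∀ l, ev (LefPen.dehom (G l) i • τ l) =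
          LocalizedModule.mk (if a l ≤ N + b then homogeneousComponent (N + b - a l) (c l) * (G l).1 else 0)
            ⟨(MvPolynomial.X i) ^ (N + e), hXNe⟩ := fun l => by
        refine (val_dehom_smul (G l) i m (τ l) x).trans ?_
        change _ • LocalizedModule.mk (c' l) _ = _
        rw [LocalizedModule.mk_smul_mk, LocalizedModule.mk_eq]
        refine ⟨1, ?_⟩
        simp only [c', one_smul, Submonoid.smul_def, Submonoid.coe_mul, smul_eq_mul]
        split <;> ring
      rw [Finset.sum_congr rfl fun l _ => hterm l]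
      let emb : S →+ GrTilde.LocMod 𝒢 (M := S) x.1 := AddMonoidHom.mk'
        (fun q => LocalizedModule.mk q ⟨(MvPolynomial.X i) ^ (N + e), hXNe⟩)
        (fun q q' => by
          rw [LocalizedModule.mk_add_mk, LocalizedModule.mk_eq]
          refine ⟨1, ?_⟩
          simp only [one_smul, Submonoid.smul_def, Submonoid.coe_mul, smul_eq_mul]
          ring)
      change _ = ∑ l, emb _
      rw [← map_sum]
      change _ = LocalizedModule.mk _ _
      have hN' : ∑ l, (if a l ≤ N + b then homogeneousComponent (N + b - a l) (c l) * (G l).1 else 0) =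
          (MvPolynomial.X i : S) ^ N * p := by
        have h1 : homogeneousComponent (N + b) ((MvPolynomial.X i : S) ^ N * p) = (MvPolynomial.X i : S) ^ N * p :=
          homogeneousComponent_eq_self ((isHomogeneous_X_pow (R := k) i N).mul hpm)
        rw [← h1, ← hc, map_sum]
        refine Finset.sum_congr rfl fun l _ => ?_
        rw [mul_comm (c l), component_mul_left (form_isHomogeneous (G l))]
        split <;> ring
      rw [hN', LocalizedModule.mk_eq]
      refine ⟨1, ?_⟩
      simp only [one_smul, Submonoid.smul_def, smul_eq_mul]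
      ring
    rw [hsum]
    exact Submodule.sum_mem _ fun l _ => Submodule.smul_mem_smul (Ideal.subset_span ⟨l, rfl⟩) trivial
  · intro hσ
    let Φ := ((botIso (k := k) (n := n) m).hom ≫ quotT (bot_le : ⊥ ≤ full G) m)
    refine (show _ ≤ LinearMap.ker (secₗ Φ (LefPen.chart n k i)) from ?_) hσ
    rw [Submodule.span_smul_eq, Submodule.set_smul_le_iff]
    rintro f τ ⟨l, rfl⟩ -
    rw [LinearMap.mem_ker]
    refine Subtype.ext (funext fun x => Subtype.ext ?_)
    refine (π_val (full G) m _ x).trans ?_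
    refine (congrArg _ (val_dehom_smul (G l) i m τ x)).trans ?_
    refine (ProjTildeExact.locMap_smul _ x.1 _ _).trans ?_
    exact smul_eq_zero_of_mem (full G) x.1 (Ideal.subset_span (show (G l).1 ∈ Set.range (fun l => (G l).1) from ⟨l, rfl⟩)) _ _

instance isLocallyNoetherian_proj : IsLocallyNoetherian (CohB1.ProjSpace n k) :=
  haveI : IsProper (CohB1.ProjSpace n k ↘ Spec (CommRingCat.of k)) := ProjSpace.Basic.isProper_toSpec n k
  LocallyOfFiniteType.isLocallyNoetherian (CohB1.ProjSpace n k ↘ Spec (CommRingCat.of k))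

/-- Two quotients of a quasi-coherent module with the same kernels on the charts are isomorphic. -/
theorem exists_iso_of_kernel {M A B : (CohB1.ProjSpace n k).Modules} [M.IsQuasicoherent] [A.IsQuasicoherent]
    [B.IsQuasicoherent] (u : M ⟶ A) (v : M ⟶ B) [Epi u] [Epi v]
    (key : ∀ (i : Fin (n + 1)) (σ : Γ(M, LefPen.chart n k i)),
      u.app (LefPen.chart n k i) σ = 0 ↔ v.app (LefPen.chart n k i) σ = 0) :
    ∃ e : A ≅ B, u ≫ e.hom = v := by
  have h1 : kernel.ι u ≫ v = 0 := by
    haveI : (kernel u).IsQuasicoherent := QCoh.Closure.isQCoh_kernel u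
    refine hom_eq_zero _ (fun i => LefPen.chart n k i) (fun i => ProjSpace.Basic.isAffineOpen_basicOpen_X k i)
      exists_chart fun i s => (key i _).1 ?_
    change (kernel.ι u ≫ u).app _ s = 0
    rw [kernel.condition]; rfl
  have h2 : kernel.ι v ≫ u = 0 := by
    haveI : (kernel v).IsQuasicoherent := QCoh.Closure.isQCoh_kernel _
    refine hom_eq_zero _ (fun i => LefPen.chart n k i) (fun i => ProjSpace.Basic.isAffineOpen_basicOpen_X k i)
      exists_chart fun i s => (key i _).2 ?_
    change (kernel.ι v ≫ v).app _ s = 0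
    rw [kernel.condition]; rfl
  refine ⟨⟨Abelian.epiDesc u _ h1, Abelian.epiDesc v _ h2, ?_, ?_⟩, Abelian.comp_epiDesc u _ h1⟩
  · rw [← cancel_epi u, ← Category.assoc, Abelian.comp_epiDesc, Abelian.comp_epiDesc, Category.comp_id]
  · rw [← cancel_epi v, ← Category.assoc, Abelian.comp_epiDesc, Abelian.comp_epiDesc, Category.comp_id]

theorem π_props (hreg : Reg G) (m : ℤ) : Epi (π (full G) m) ∧ (T (full G) 0 m).IsQuasicoherent := by
  have h : ∀ (J : Ideal S) (h : (⊥ : Ideal S) ≤ J), J = pre G r → Epi (quotT h m) ∧ (T J 0 m).IsQuasicoherent := by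
    rintro J h rfl
    exact epi_and_qcoh hreg r le_rfl m
  obtain ⟨hep, hqc⟩ := h (full G) bot_le (pre_self G).symm
  refine ⟨?_, hqc⟩
  haveI := hep
  haveI : Epi ((botIso (k := k) (n := n) m).hom ≫ quotT (bot_le : (⊥ : Ideal S) ≤ full G) m) := epi_comp _ _
  exact epi_comp (ProjCoh.Coherent.twIso (n := n) (R := k) m).hom _

/-- An isomorphism of modules preserves `J M`. -/
theorem mem_smul_top_iff_of_iso {X : Scheme.{u}} {M N : X.Modules} (e : M ≅ N) (U : X.Opens) (J : Ideal Γ(X, U))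
    (σ : Γ(M, U)) : σ ∈ J • (⊤ : Submodule Γ(X, U) Γ(M, U)) ↔ e.hom.app U σ ∈ J • (⊤ : Submodule Γ(X, U) Γ(N, U)) := by
  let E := secₗ e.hom U
  have hbij : Function.Bijective E := ⟨Function.LeftInverse.injective (g := e.inv.app U) fun z => by
      change (e.hom ≫ e.inv).app U z = z
      rw [Iso.hom_inv_id]; rfl,
    Function.RightInverse.surjective (g := e.inv.app U) fun z => by
      change (e.inv ≫ e.hom).app U z = z
      rw [Iso.inv_hom_id]; rfl⟩
  have hmap : Submodule.map E (J • ⊤) = J • ⊤ := by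
    rw [Submodule.map_smul'', Submodule.map_top, LinearMap.range_eq_top.2 hbij.2]
  change σ ∈ _ ↔ E σ ∈ _
  conv_rhs => rw [← hmap]
  exact ⟨fun h => Submodule.mem_map_of_mem h, fun ⟨z, hz, hzσ⟩ => hbij.1 hzσ ▸ hz⟩

theorem π_tw_app_eq_zero_iff (m : ℤ) (i : Fin (n + 1))
    (σ : Γ(Twist.twistProjSpace n k m, LefPen.chart n k i)) :
    (π (full G) m).app (LefPen.chart n k i) σ = 0 ↔
      σ ∈ Ideal.span (Set.range fun l => LefPen.dehom (G l) i) •
        (⊤ : Submodule Γ(CohB1.ProjSpace n k, LefPen.chart n k i) Γ(Twist.twistProjSpace n k m, LefPen.chart n k i)) :=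
  (π_app_eq_zero_iff m i _).trans
    (mem_smul_top_iff_of_iso (ProjCoh.Coherent.twIso (n := n) (R := k) m) _ _ σ).symm

/-- `(S/(G))(m)~ ≅ ι_* ι^* O(m)`, compatibly with the maps from `O(m)`. -/
theorem exists_iso (hreg : Reg G) (m : ℤ) :
    ∃ e : (Scheme.Modules.pushforward (LefPen.ciIdeal G).subschemeι).obj
        ((Scheme.Modules.pullback (LefPen.ciIdeal G).subschemeι).obj (Twist.twistProjSpace n k m)) ≅ T (full G) 0 m,
      (Scheme.Modules.pullbackPushforwardAdjunction (LefPen.ciIdeal G).subschemeι).unit.app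
        (Twist.twistProjSpace n k m) ≫ e.hom = π (full G) m := by
  let ι := (LefPen.ciIdeal G).subschemeι
  let M := Twist.twistProjSpace n k m
  let u : M ⟶ (Scheme.Modules.pushforward ι).obj ((Scheme.Modules.pullback ι).obj M) :=
    (Scheme.Modules.pullbackPushforwardAdjunction ι).unit.app M
  have hM : Coh.IsCoh M := ProjCoh.Coherent.isCoh_tw m
  haveI : Epi u := PushClosed.Unit.epi_unit ι M
  haveI := (π_props hreg m).1
  haveI := (π_props hreg m).2
  haveI := hM.1
  haveI := (Exchange.Thick.Unit.isCoh_pushPull ι hM).1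
  refine exists_iso_of_kernel u (π (full G) m) fun i σ => ?_
  rw [Exchange.Thick.Unit.app_eq_zero_iff ι hM (ProjSpace.Basic.isAffineOpen_basicOpen_X k i),
    Scheme.IdealSheafData.ker_subschemeι]
  change _ ∈ (LefPen.ciIdeal G).ideal (LefPen45.HypSheaf.chartAff k i) • _ ↔ _
  rw [ciIdeal_chart]
  exact (π_tw_app_eq_zero_iff m i σ).symm

/-- `O ⟶ (S/I)~`. -/
def π₀ (I : Ideal (MvPolynomial (Fin (n + 1)) k)) : Coh.structureModule (CohB1.ProjSpace n k) ⟶ T I 0 0 :=
  (ProjCoh.Coherent.twZero (n := n) (R := k)).inv ≫ π I 0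

omit [Field k] in
theorem mem_smul_top_structure {X : Scheme.{u}} (U : X.Opens) (J : Ideal Γ(X, U)) (σ : Γ(Coh.structureModule X, U)) :
    σ ∈ J • (⊤ : Submodule Γ(X, U) Γ(Coh.structureModule X, U)) ↔ (show Γ(X, U) from σ) ∈ J := by
  refine ⟨fun h => ?_, fun h => ?_⟩
  · exact Submodule.smul_induction_on h (fun c hc t _ => J.mul_mem_right (show Γ(X, U) from t) hc)
      (fun x y hx hy => J.add_mem hx hy)
  · have e : (show Γ(X, U) from σ) • (show Γ(Coh.structureModule X, U) from (1 : Γ(X, U))) = σ :=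
      mul_one (show Γ(X, U) from σ)
    rw [← e]
    exact Submodule.smul_mem_smul h Submodule.mem_top

theorem π₀_app_eq_zero_iff (i : Fin (n + 1))
    (σ : Γ(Coh.structureModule (CohB1.ProjSpace n k), LefPen.chart n k i)) :
    (π₀ (full G)).app (LefPen.chart n k i) σ = 0 ↔
      (show Γ(CohB1.ProjSpace n k, LefPen.chart n k i) from σ) ∈ Ideal.span (Set.range fun l => LefPen.dehom (G l) i) := by
  have h1 := π_tw_app_eq_zero_iff (G := G) 0 i
    ((ProjCoh.Coherent.twZero (n := n) (R := k)).inv.app (LefPen.chart n k i) σ)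
  have h2 := mem_smul_top_iff_of_iso (ProjCoh.Coherent.twZero (n := n) (R := k)).symm (LefPen.chart n k i)
    (Ideal.span (Set.range fun l => LefPen.dehom (G l) i)) σ
  have h3 := mem_smul_top_structure (LefPen.chart n k i)
    (Ideal.span (Set.range fun l => LefPen.dehom (G l) i)) σ
  have e : (π₀ (full G)).app (LefPen.chart n k i) σ = (π (full G) 0).app (LefPen.chart n k i)
      ((ProjCoh.Coherent.twZero (n := n) (R := k)).inv.app (LefPen.chart n k i) σ) := by
    unfold π₀
    rfl
  rw [e]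
  exact h1.trans (h2.symm.trans h3)

theorem epi_π₀ (hreg : Reg G) : Epi (π₀ (full G)) := by
  have h := (π_props hreg 0).1
  exact @epi_comp _ _ _ _ _ (ProjCoh.Coherent.twZero (n := n) (R := k)).inv inferInstance _ h

end Groth.Agent.Lib.ProjCI.Ident
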