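import Groth.Agent.Lib.ProjCI.Tilde
import Groth.Agent.H80.Divisor.CI
import Groth.Agent.H80.Divisor.Bridge

/-!
# Rank one matrices of forms on the cone of a complete intersection factor
-/

set_option autoImplicit false
universe u

open MvPolynomial IsLocalRing RingTheory.Sequence AlgebraicGeometry
open Groth.Agent.Lib Groth.Agent.H80.Clopen Groth.Agent.H80.Divisor

noncomputable section

namespace Groth.Agent.Lib.ProjCI.Factor

open Cone

variable {k : Type u} [Field k] {n r : ℕ} {a : Fin r → ℕ} {G : ∀ j : Fin r, LefPen.Form n k (a j)}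

local notation "S" => MvPolynomial (Fin (n + 1)) k

/-- A homogeneous ideal is saturated with respect to polynomials with nonzero constant term. -/
theorem mem_of_unit_mul {J : Ideal S} (hJ : J.IsHomogeneous (CohB1.polyGrading n k)) {u H : S}
    (hu : coeff 0 u ≠ 0) (h : u * H ∈ J) : H ∈ J := by
  suffices key : ∀ d, homogeneousComponent d H ∈ J by
    rw [← sum_homogeneousComponent H]; exact Ideal.sum_mem _ fun d _ => key d
  intro d
  induction d using Nat.strong_induction_on with
  | _ d ih =>
    let L := ∑ d' ∈ Finset.range d, homogeneousComponent d' H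
    have hL : L ∈ J := Ideal.sum_mem _ fun d' hd' => ih d' (Finset.mem_range.1 hd')
    have hlow : ∀ j ≤ d, homogeneousComponent j (H - L) = if j = d then homogeneousComponent d H else 0 := by
      intro j hj
      rw [map_sub, map_sum]
      rcases hj.lt_or_eq with hj' | rfl
      · rw [Finset.sum_eq_single j, homogeneousComponent_eq_self (homogeneousComponent_isHomogeneous j H), sub_self,
          if_neg hj'.ne]
        · intro b _ hb
          rw [homogeneousComponent_of_mem (homogeneousComponent_isHomogeneous b H), if_neg (Ne.symm hb)]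
        · exact fun h0 => absurd (Finset.mem_range.2 hj') h0
      · rw [Finset.sum_eq_zero, sub_zero, if_pos rfl]
        intro b hb
        rw [homogeneousComponent_of_mem (homogeneousComponent_isHomogeneous b H),
          if_neg (Finset.mem_range.1 hb).ne']
    have h1 := ProjDim.Graded.component_mem hJ
      (show u * (H - L) ∈ J by rw [mul_sub]; exact sub_mem h (J.mul_mem_left _ hL)) d
    have h2 : homogeneousComponent d (u * (H - L)) = C (coeff 0 u) * homogeneousComponent d H := by
      conv_lhs => rw [← sum_homogeneousComponent u]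
      rw [Finset.sum_mul, map_sum, Finset.sum_eq_single 0]
      · rw [homogeneousComponent_zero, homogeneousComponent_C_mul, hlow d le_rfl, if_pos rfl]
      · intro m _ hm
        rw [Tilde.component_mul_left (homogeneousComponent_isHomogeneous m u)]
        split
        · rw [hlow _ (Nat.sub_le _ _), if_neg (by omega), mul_zero]
        · rfl
      · intro h0
        exact absurd (Finset.mem_range.2 (Nat.succ_pos _)) h0
    rw [h2] at h1
    have h3 := J.mul_mem_left (C (coeff 0 u)⁻¹) h1
    rwa [← mul_assoc, ← map_mul, inv_mul_cancel₀ hu, map_one, one_mul] at h3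

set_option maxHeartbeats 1000000 in
/-- A rank one matrix of forms of degree `D` on a complete intersection of dimension `≥ 3`, without
common zero, factors as a column times a row. -/
theorem exists_factor (hreg : Reg G) (ha : ∀ j, 1 ≤ a j) (hr : r + 3 ≤ n) {c c' D : ℕ}
    (hne : ∃ i : Fin (n + 1), ∀ N : ℕ, (X i : S) ^ N ∉ full G)
    (F : Fin c → Fin c' → S) (hF : ∀ α β, (F α β).IsHomogeneous D)
    (hminor : ∀ α β γ δ (i : Fin (n + 1)), ∃ N : ℕ,
      (X i : S) ^ N * (F α β * F γ δ - F α δ * F γ β) ∈ full G)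
    (hrad : ∀ i : Fin (n + 1), ∃ N : ℕ,
      (X i : S) ^ N ∈ full G ⊔ Ideal.span (Set.range fun p : Fin c × Fin c' => F p.1 p.2)) :
    ∃ (e : ℕ) (_ : e ≤ D) (v : Fin c → S) (b : Fin c' → S), (∀ α, (v α).IsHomogeneous e) ∧
      (∀ β, (b β).IsHomogeneous (D - e)) ∧ ∀ α β, F α β - v α * b β ∈ full G := by
  classical
  haveI := ProjDim.Graded.irr_isMaximal (n := n) (k := k)
  haveI : (ProjDim.Graded.irr n k).IsPrime := Ideal.IsMaximal.isPrime inferInstance
  let P := ProjDim.Graded.irr n k
  let B := Localization.AtPrime P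
  let rs : List S := List.ofFn fun l => (G l).1
  have hfull : Ideal.ofList rs = full G := by
    rw [Ideal.ofList, full]
    congr 1
    ext f
    simp [rs, List.mem_ofFn]
  let rsB := rs.map (algebraMap S B)
  have hmap : Ideal.ofList rsB = (full G).map (algebraMap S B) := by
    rw [← hfull, Ideal.map_ofList]
  have hle : full G ≤ P := by rw [← pre_self]; exact pre_le_irr G ha r
  have hmem : ∀ x ∈ rsB, x ∈ maximalIdeal B := by
    intro x hx
    obtain ⟨y, hy, rfl⟩ := List.mem_map.1 hx
    exact (IsLocalization.AtPrime.to_map_mem_maximal_iff B P y).2 (hle (hfull ▸ Ideal.subset_span hy))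
  have hwreg : IsWeaklyRegular B rsB := by
    rw [isWeaklyRegular_iff_Fin]
    intro j
    have hj : j.1 < r := by simpa [rsB, rs] using j.2
    have hget : rsB[j.1] = algebraMap S B (G ⟨j.1, hj⟩).1 := by simp [rsB, rs]
    have htake : Ideal.ofList (rsB.take j.1) = (pre G j.1).map (algebraMap S B) := by
      rw [← List.map_take, ← Ideal.map_ofList]
      congr 1
      rw [Ideal.ofList, pre]
      congr 1
      ext f
      simp only [Set.mem_setOf_eq, rs, List.mem_take_iff_getElem, List.getElem_ofFn, List.length_ofFn]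
      constructor
      · rintro ⟨l, hl, rfl⟩
        exact ⟨⟨l, lt_of_lt_of_le hl (min_le_right _ _)⟩, lt_of_lt_of_le hl (min_le_left _ _), rfl⟩
      · rintro ⟨l, hl, rfl⟩
        exact ⟨l, by omega, rfl⟩
    rw [isSMulRegular_iff_right_eq_zero_of_smul]
    intro z hz
    obtain ⟨z, rfl⟩ := Submodule.Quotient.mk_surjective _ z
    rw [← Submodule.Quotient.mk_smul, Submodule.Quotient.mk_eq_zero, Ideal.smul_eq_mul, Ideal.mul_top,
      smul_eq_mul, Fin.getElem_fin, hget, htake] at hz
    rw [Submodule.Quotient.mk_eq_zero, Ideal.smul_eq_mul, Ideal.mul_top, htake]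
    obtain ⟨⟨x, u⟩, hx⟩ := IsLocalization.surj P.primeCompl z
    have h1 : algebraMap S B ((G ⟨j.1, hj⟩).1 * x) ∈ (pre G j.1).map (algebraMap S B) := by
      rw [map_mul, ← hx, ← mul_assoc]; exact Ideal.mul_mem_right _ _ hz
    obtain ⟨w, hw, hwm⟩ := (IsLocalization.algebraMap_mem_map_algebraMap_iff P.primeCompl B _ _).1 h1
    have h2 := mem_of_unit_mul (pre_hom G j.1) (fun h0 => hw (ProjDim.Graded.mem_irr.2 h0)) hwm
    have h3 : x ∈ pre G j.1 := by
      have hH := pre_hom G j.1
      rw [← sum_homogeneousComponent x]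
      refine Ideal.sum_mem _ fun d _ => hreg j.1 hj d _ (homogeneousComponent_isHomogeneous d x) ?_
      have := ProjDim.Graded.component_mem hH h2 (a ⟨j.1, hj⟩ + d)
      rwa [Tilde.component_mul_left (form_isHomogeneous _), if_pos (Nat.le_add_right _ _), Nat.add_sub_cancel_left] at this
    have h4 := Ideal.mem_map_of_mem (algebraMap S B) h3
    rw [← hx] at h4
    exact ((Ideal.mul_unit_mem_iff_mem _ (IsLocalization.map_units B u))).1 h4
  haveI hloc : IsLocalRing (B ⧸ Ideal.ofList rsB) := isLocalRing_ci rsB hmem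
  have hB : ringKrullDim B = ((n + 1 : ℕ) : WithBot ℕ∞) := by
    rw [IsLocalization.AtPrime.ringKrullDim_eq_height P B]
    have h1 := Dim.Basic.height_add_dimQ k P
    rw [show Dim.Basic.dimQ k P = 0 from ProjDim.Graded.dimQ_irr] at h1
    have h3 : Dim.Basic.trdegNat k S = n + 1 := by
      have := (Dim.Basic.ringKrullDim_eq_trdegNat k S).symm.trans (Dim.Basic.ringKrullDim_mvPolynomial k (Fin (n + 1)))
      simp at this; exact_mod_cast this
    rw [h3] at h1
    simp only [Nat.cast_zero, add_zero] at h1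
    rw [h1]; rfl
  have h4 : (4 : WithBot ℕ∞) ≤ ringKrullDim (B ⧸ Ideal.ofList rsB) := by
    have hd := dim_ci rsB hmem hwreg
    rw [hB, show rsB.length = r by simp [rsB, rs]] at hd
    obtain ⟨h, hh⟩ : ∃ h : ℕ, ringKrullDim (B ⧸ Ideal.ofList rsB) = h := by
      revert hd
      generalize ringKrullDim (B ⧸ Ideal.ofList rsB) = z
      intro hd
      induction z using WithBot.recBotCoe with
      | bot => rw [WithBot.bot_add] at hd; exact absurd hd.symm (WithBot.coe_ne_bot (a := ((n + 1 : ℕ) : ℕ∞)))
      | coe z =>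
        induction z using ENat.recTopCoe with
        | top => exact absurd (show (⊤ : ℕ∞) + (r : ℕ∞) = ((n + 1 : ℕ) : ℕ∞) by exact_mod_cast hd) (by simp; exact (ENat.natCast_ne_top (n + 1)).symm)
        | coe h => exact ⟨h, rfl⟩
    rw [hh] at hd ⊢
    have : h + r = n + 1 := by exact_mod_cast hd
    exact_mod_cast (show 4 ≤ h by omega)
  let A := B ⧸ Ideal.ofList rsB
  let q : S →+* A := (Ideal.Quotient.mk _).comp (algebraMap S B)
  have hq0 : ∀ p : S, q p = 0 ↔ p ∈ full G := fun p => by
    refine (Ideal.Quotient.eq_zero_iff_mem).trans ⟨fun h => ?_, fun h => ?_⟩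
    · rw [hmap] at h
      obtain ⟨w, hw, hwp⟩ := (IsLocalization.algebraMap_mem_map_algebraMap_iff P.primeCompl B _ _).1 h
      exact mem_of_unit_mul (full_hom G) (fun h0 => hw (ProjDim.Graded.mem_irr.2 h0)) hwp
    · rw [hmap]; exact Ideal.mem_map_of_mem _ h
  have hqu : ∀ p : S, p ∉ P → IsUnit (q p) := fun p hp =>
    (IsLocalization.map_units B (⟨p, hp⟩ : P.primeCompl)).map (Ideal.Quotient.mk (Ideal.ofList rsB))
  have hqsurj : ∀ z : A, ∃ (p : S) (u : S), u ∉ P ∧ z * q u = q p := fun z => by
    obtain ⟨z, rfl⟩ := Ideal.Quotient.mk_surjective z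
    obtain ⟨⟨p, u⟩, hp⟩ := IsLocalization.surj P.primeCompl z
    refine ⟨p, u, u.2, ?_⟩
    change Ideal.Quotient.mk _ z * Ideal.Quotient.mk _ (algebraMap S B u) = Ideal.Quotient.mk _ _
    rw [← map_mul, hp]
  let am : Fin c × Fin c' → A := fun p => q (F p.1 p.2)
  have hD : ∀ α β, q (F α β) = 0 ∨ F α β ∈ P ∨ D = 0 := fun α β => by
    rcases Nat.eq_zero_or_pos D with h | h
    · exact Or.inr (Or.inr h)
    · exact Or.inr (Or.inl (ProjDim.Graded.mem_irr_of_isHomogeneous (hF α β) h))
  -- if some entry is a unit, the degree is zero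
  have hprim : maximalIdeal A ≤ (Ideal.span (Set.range am)).radical := by
    intro z hz
    obtain ⟨p, u, hu, hp⟩ := hqsurj z
    have hpP : p ∈ P := by
      by_contra hpn
      exact (IsLocalRing.mem_maximalIdeal _).1 hz (isUnit_of_mul_isUnit_left (hp ▸ hqu p hpn))
    have hzu : q p ∈ (Ideal.span (Set.range am)).radical := by
      rw [← sum_homogeneousComponent p, map_sum]
      refine Ideal.sum_mem _ fun d _ => ?_
      rcases Nat.eq_zero_or_pos d with rfl | hd
      · rw [homogeneousComponent_zero, ProjDim.Graded.mem_irr.1 hpP, map_zero, map_zero]; exact zero_mem _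
      · have hX : ∀ i, q (X i) ∈ (Ideal.span (Set.range am)).radical := fun i => by
          obtain ⟨N, hN⟩ := hrad i
          refine ⟨N, ?_⟩
          rw [← map_pow]
          obtain ⟨g, hg, w, hw, hgw⟩ := Submodule.mem_sup.1 hN
          rw [← hgw, map_add, (hq0 g).2 hg, zero_add]
          have := Ideal.mem_map_of_mem q hw
          rwa [Ideal.map_span, ← Set.range_comp] at this
        have hh : (homogeneousComponent d p) ∈ Ideal.span (Set.range (X : Fin (n + 1) → S)) := by
          rw [← Set.image_univ, MvPolynomial.mem_ideal_span_X_image]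
          intro m hm
          have hdeg := (homogeneousComponent_isHomogeneous d p) (mem_support_iff.1 hm)
          obtain ⟨i, hi⟩ : ∃ i, m i ≠ 0 := by
            by_contra hall
            push Not at hall
            have : m = 0 := Finsupp.ext hall
            rw [this, map_zero] at hdeg
            omega
          exact ⟨i, trivial, hi⟩
        have := Ideal.mem_map_of_mem q hh
        rw [Ideal.map_span, ← Set.range_comp] at this
        exact Ideal.span_le.2 (by rintro _ ⟨i, rfl⟩; exact hX i) this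
    rw [← hp] at hzu
    obtain ⟨u', hu'⟩ := (hqu u hu).exists_right_inv
    have := Ideal.mul_mem_right u' _ hzu
    rwa [mul_assoc, hu', mul_one] at this
  by_cases hm : ∀ p, am p ∈ maximalIdeal A
  swap
  · push Not at hm
    obtain ⟨⟨α₀, β₀⟩, h0⟩ := hm
    have hP0 : F α₀ β₀ ∉ P := fun hh => h0 (by
      change Ideal.Quotient.mk _ (algebraMap S B _) ∈ _
      rw [IsLocalRing.mem_maximalIdeal]
      intro hu
      have hB' : algebraMap S B (F α₀ β₀) ∈ maximalIdeal B :=
        (IsLocalization.AtPrime.to_map_mem_maximal_iff B P _).2 hh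
      haveI : IsLocalHom (Ideal.Quotient.mk (Ideal.ofList rsB)) :=
        IsLocalHom.of_surjective _ Ideal.Quotient.mk_surjective
      exact (IsLocalRing.mem_maximalIdeal _).1 hB' (isUnit_of_map_unit (Ideal.Quotient.mk (Ideal.ofList rsB)) _ hu))
    have hD0 : D = 0 := by
      by_contra hD
      exact hP0 (ProjDim.Graded.mem_irr_of_isHomogeneous (hF α₀ β₀) (Nat.pos_of_ne_zero hD))
    subst hD0
    have hC : ∀ α β, F α β = C (coeff 0 (F α β)) := fun α β =>
      MvPolynomial.totalDegree_eq_zero_iff_eq_C.1 (Nat.le_zero.1 (hF α β).totalDegree_le)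
    have hc0 : coeff 0 (F α₀ β₀) ≠ 0 := fun hh => hP0 (ProjDim.Graded.mem_irr.2 hh)
    refine ⟨0, le_rfl, fun α => F α β₀, fun β => C (coeff 0 (F α₀ β₀))⁻¹ * F α₀ β, fun α => hF α β₀,
      fun β => by simpa using (isHomogeneous_C (Fin (n + 1)) (coeff 0 (F α₀ β₀))⁻¹).mul (hF α₀ β), fun α β => ?_⟩
    obtain ⟨i, hi⟩ := hne
    obtain ⟨N, hN⟩ := hminor α β α₀ β₀ i
    by_cases hz : coeff 0 (F α β * F α₀ β₀ - F α β₀ * F α₀ β) = 0
    · have hz' : F α β * F α₀ β₀ - F α β₀ * F α₀ β = 0 := by
        rw [hC α β, hC α₀ β₀, hC α β₀, hC α₀ β, ← map_mul, ← map_mul, ← map_sub] at hz ⊢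
        rw [coeff_C, if_pos rfl] at hz
        rw [hz, map_zero]
      have e : C (coeff 0 (F α₀ β₀))⁻¹ * F α₀ β₀ = 1 := by
        conv_lhs => rw [hC α₀ β₀]
        rw [← map_mul, coeff_C, if_pos rfl, inv_mul_cancel₀ hc0, map_one]
      have : F α β - F α β₀ * (C (coeff 0 (F α₀ β₀))⁻¹ * F α₀ β) = 0 := by
        linear_combination (C (coeff 0 (F α₀ β₀))⁻¹) * hz' - (F α β) * e
      rw [this]; exact zero_mem _
    · exact absurd (mem_of_unit_mul (full_hom G) hz (by rwa [mul_comm] at hN)) (hi N)
  -- the module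
  have hdepth := depth_ci rsB hmem hwreg 2 (le_trans (by norm_num) h4)
  obtain ⟨p₁, p₂, hp₁, hp₂, hpr⟩ := exists_pair hdepth
  obtain ⟨hr1, hr2⟩ := regMod_pair hpr
  have mem : ∀ {w : A}, w ∈ maximalIdeal A → ∀ I : Ideal A,
      w ∈ (Ideal.span (Set.range am) ⊔ I).radical := fun hw I => Ideal.radical_mono le_sup_left (hprim hw)
  have hAs : Sep am A ⊥ := sep_of_regMod am (mem hp₁ _) hr1
  have hAg : Glue am A ⊥ := glue_of_regMod am (mem hp₁ _) (mem hp₂ _) hr1 hr2
  have sep0 : ∀ z : A, (∀ i, ∃ l : ℕ, am i ^ l * z = 0) → z = 0 := fun z hz => by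
    have := hAs z fun i => (hz i).imp fun l hl => by
      rw [Submodule.bot_smul, Submodule.mem_bot]; exact hl
    rwa [Submodule.bot_smul, Submodule.mem_bot] at this
  have hXsep : ∀ z : A, (∀ i : Fin (n + 1), ∃ N : ℕ, q (X i) ^ N * z = 0) → z = 0 := fun z hz => by
    refine sep0 z fun p => ?_
    rcases Nat.eq_zero_or_pos D with h | h
    · exfalso
      have hCp : F p.1 p.2 = C (coeff 0 (F p.1 p.2)) :=
        MvPolynomial.totalDegree_eq_zero_iff_eq_C.1 (Nat.le_zero.1 ((h ▸ hF p.1 p.2).totalDegree_le))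
      have hall : ∀ p : Fin c × Fin c', F p.1 p.2 = 0 := fun p => by
        by_contra hne'
        have hCp : F p.1 p.2 = C (coeff 0 (F p.1 p.2)) :=
          MvPolynomial.totalDegree_eq_zero_iff_eq_C.1 (Nat.le_zero.1 ((h ▸ hF p.1 p.2).totalDegree_le))
        have hc : coeff 0 (F p.1 p.2) ≠ 0 := fun h0 => hne' (by rw [hCp, h0, map_zero])
        exact (IsLocalRing.mem_maximalIdeal _).1 (hm p) (hqu _ fun hh => hc (ProjDim.Graded.mem_irr.1 hh))
      obtain ⟨i, hi⟩ := hne
      obtain ⟨N, hN⟩ := hrad i
      refine hi N ?_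
      rwa [show Ideal.span (Set.range fun p : Fin c × Fin c' => F p.1 p.2) = ⊥ from
        Ideal.span_eq_bot.2 (by rintro _ ⟨p, rfl⟩; exact hall p), sup_bot_eq] at hN
    · have hh : F p.1 p.2 ∈ Ideal.span (Set.range (X : Fin (n + 1) → S)) := by
        rw [← Set.image_univ, MvPolynomial.mem_ideal_span_X_image]
        intro m hm'
        have hdeg := hF p.1 p.2 (mem_support_iff.1 hm')
        obtain ⟨i, hi⟩ : ∃ i, m i ≠ 0 := by
          by_contra hall
          push Not at hall
          have : m = 0 := Finsupp.ext hall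
          rw [this, map_zero] at hdeg
          omega
        exact ⟨i, trivial, hi⟩
      have hr : am p ∈ Ideal.radical (R := A) (LinearMap.ker ((LinearMap.id (R := A) (M := A)).smulRight z)) := by
        have := Ideal.mem_map_of_mem q hh
        rw [Ideal.map_span, ← Set.range_comp] at this
        refine Ideal.span_le.2 ?_ this
        rintro _ ⟨i, rfl⟩
        obtain ⟨N, hN⟩ := hz i
        exact ⟨N, by simpa using hN⟩
      obtain ⟨l, hl⟩ := hr
      exact ⟨l, by simpa using hl⟩
  have hmin : ∀ α β γ δ, q (F α β) * q (F γ δ) = q (F α δ) * q (F γ β) := fun α β γ δ => by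
    rw [← sub_eq_zero]
    refine hXsep _ fun i => ?_
    obtain ⟨N, hN⟩ := hminor α β γ δ i
    exact ⟨N, by rw [← map_mul, ← map_mul, ← map_sub, ← map_pow, ← map_mul]; exact (hq0 _).2 hN⟩
  let M : Submodule A (Fin c → A) :=
    { carrier := {w | ∀ α γ β, w α * q (F γ β) = w γ * q (F α β)}
      add_mem' := fun {x y} hx hy α γ β => by
        simp only [Pi.add_apply, add_mul, hx α γ β, hy α γ β]
      zero_mem' := fun α γ β => by simp
      smul_mem' := fun t x hx α γ β => by
        simp only [Pi.smul_apply, smul_eq_mul, mul_assoc, hx α γ β] }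
  let D₀ : LineData am M :=
    { e := fun p => ⟨fun α => q (F α p.2), fun α γ β => hmin α p.2 γ β ▸ by ring⟩
      φ := fun p => (LinearMap.proj p.1).comp M.subtype
      k := 1
      unit := fun p => (pow_one _).symm
      span := fun p z => Subtype.ext (funext fun α => by
        change z.1 p.1 * q (F α p.2) = q (F p.1 p.2) ^ 1 * z.1 α
        rw [pow_one, mul_comm (q (F p.1 p.2))]
        exact (z.2 α p.1 p.2).symm) }
  have hMs : Sep am M ⊥ := fun z hz => by
    rw [Submodule.bot_smul, Submodule.mem_bot]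
    refine Subtype.ext (funext fun α => sep0 _ fun i => (hz i).imp fun l hl => ?_)
    rw [Submodule.bot_smul, Submodule.mem_bot] at hl
    exact congrFun (congrArg Subtype.val hl) α
  have hMg : Glue am M ⊥ := fun κ m hmc => by
    choose w hw using fun α => hAg κ (fun i => (m i).1 α) fun i j => (hmc i j).imp fun l hl => by
      rw [Submodule.bot_smul, Submodule.mem_bot] at hl ⊢
      exact congrFun (congrArg Subtype.val hl) α
    replace hw : ∀ α i, ∃ l : ℕ, am i ^ l * (am i ^ κ * w α - (m i).1 α) = 0 := fun α i =>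
      (hw α i).imp fun l hl => by
        rw [Submodule.bot_smul, Submodule.mem_bot] at hl
        exact hl
    have hwM : w ∈ M := fun α γ β => by
      rw [← sub_eq_zero]
      refine sep0 _ fun i => ?_
      obtain ⟨l, hl⟩ := hw α i
      obtain ⟨l', hl'⟩ := hw γ i
      refine ⟨l + l' + κ, ?_⟩
      simp only [pow_add]
      linear_combination (am i ^ l' * q (F γ β)) * hl - (am i ^ l * q (F α β)) * hl' +
        (am i ^ l * am i ^ l') * ((m i).2 α γ β)
    refine ⟨⟨w, hwM⟩, fun i => ?_⟩
    choose l hl using fun α => hw α i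
    refine ⟨∑ α, l α, ?_⟩
    rw [Submodule.bot_smul, Submodule.mem_bot]
    refine Subtype.ext (funext fun α => ?_)
    change am i ^ (∑ α, l α) * (am i ^ κ * w α - (m i).1 α) = 0
    rw [← Finset.sum_erase_add _ _ (Finset.mem_univ α), pow_add, mul_assoc, hl α, mul_zero]
  obtain ⟨x, hx⟩ := exists_generator_of_idealPara (idealPara_ci _ B rsB rfl hmem hwreg h4) hprim hm D₀ hMs hMg hAs
  -- clear denominators
  choose p u hu hpu using fun α => hqsurj (x.1 α)
  let U := ∏ α, u α
  have hU : U ∉ P := fun hh => by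
    obtain ⟨α, -, hα⟩ := Ideal.IsPrime.prod_mem_iff.1 hh
    exact hu α hα
  let w : Fin c → S := fun α => p α * ∏ γ ∈ Finset.univ.erase α, u γ
  have hw : ∀ α, q (w α) = q U * x.1 α := fun α => by
    simp only [w, U]
    rw [map_mul, ← hpu, ← Finset.mul_prod_erase Finset.univ u (Finset.mem_univ α), map_mul]
    ring
  have hwrel : ∀ α γ β (t : ℕ), homogeneousComponent t (w α) * F γ β -
      homogeneousComponent t (w γ) * F α β ∈ full G := fun α γ β t => by
    have h0 : w α * F γ β - w γ * F α β ∈ full G := (hq0 _).1 (by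
      rw [map_sub, map_mul q (w α), map_mul q (w γ), hw, hw]
      linear_combination (q U) * (x.2 α γ β))
    have := ProjDim.Graded.component_mem (full_hom G) h0 (D + t)
    rw [map_sub, mul_comm (w α), mul_comm (w γ), Tilde.component_mul_left (hF γ β),
      Tilde.component_mul_left (hF α β), if_pos (Nat.le_add_right _ _), if_pos (Nat.le_add_right _ _),
      Nat.add_sub_cancel_left] at this
    rwa [mul_comm (homogeneousComponent t (w α)), mul_comm (homogeneousComponent t (w γ))]
  let T := (Finset.univ : Finset (Fin c)).sup fun α => (w α).totalDegree + 1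
  let xt : ℕ → M := fun t => ⟨fun α => q (homogeneousComponent t (w α)), fun α γ β => by
    rw [← sub_eq_zero, ← map_mul, ← map_mul, ← map_sub]; exact (hq0 _).2 (hwrel α γ β t)⟩
  have hsum : q U • x = ∑ t ∈ Finset.range T, xt t := Subtype.ext (funext fun α => by
    simp only [Submodule.coe_smul, Pi.smul_apply, smul_eq_mul, Submodule.coe_sum, Finset.sum_apply, xt]
    rw [← hw, ← map_sum]
    congr 1
    conv_lhs => rw [← sum_homogeneousComponent (w α)]
    refine Finset.sum_subset (Finset.range_mono (Finset.le_sup (f := fun α => (w α).totalDegree + 1) (Finset.mem_univ α)))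
      fun t _ ht => homogeneousComponent_eq_zero _ _ ?_
    simp at ht; omega)
  choose co hco using fun t => hx (xt t)
  have hx0 : x ≠ 0 := fun h => by
    obtain ⟨i, hi⟩ := hne
    obtain ⟨N, hN⟩ := hrad i
    refine hi N ?_
    rwa [sup_eq_left.2 (Ideal.span_le.2 (by
      rintro _ ⟨p, rfl⟩
      obtain ⟨c₀, hc₀⟩ := hx (D₀.e p)
      refine (hq0 _).1 ?_
      have := congrFun (congrArg Subtype.val hc₀) p.1
      rw [h, smul_zero] at this
      simpa [D₀] using this))] at hN
  obtain ⟨e, hce⟩ : ∃ t, IsUnit (co t) := by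
    by_contra hall
    push Not at hall
    have hs : ∑ t ∈ Finset.range T, co t ∈ maximalIdeal A :=
      Ideal.sum_mem _ fun t _ => (IsLocalRing.mem_maximalIdeal _).2 (hall t)
    have hzero : (q U - ∑ t ∈ Finset.range T, co t) • x = 0 := by
      refine (sub_smul (R := A) (M := M) _ _ _).trans ?_
      rw [hsum, sub_eq_zero]
      exact (Finset.sum_congr rfl fun t _ => hco t).trans (Finset.sum_smul (R := A) (M := M)).symm
    have hunit : IsUnit (q U - ∑ t ∈ Finset.range T, co t) := by
      by_contra hnu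
      have h1 := Ideal.add_mem _ ((IsLocalRing.mem_maximalIdeal _).2 hnu) hs
      rw [sub_add_cancel] at h1
      exact (IsLocalRing.mem_maximalIdeal _).1 h1 (hqu U hU)
    exact hx0 ((hunit.smul_eq_zero).1 hzero)
  let v : Fin c → S := fun α => homogeneousComponent e (w α)
  have hcol : ∀ β, ∃ b : S, b.IsHomogeneous (D - e) ∧
      ∀ α, (if e ≤ D then F α β - v α * b else F α β) ∈ full G := by
    intro β
    obtain ⟨γ, hγ⟩ : ∃ γ : A, ∀ α, q (F α β) = γ * q (v α) := by
      by_cases hc : IsEmpty (Fin c)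
      · exact ⟨0, fun α => hc.elim α⟩
      · obtain ⟨α₀⟩ := not_isEmpty_iff.1 hc
        obtain ⟨c₀, hc₀⟩ := hx (D₀.e (α₀, β))
        obtain ⟨ci, hci⟩ := hce.exists_left_inv
        refine ⟨c₀ * ci, fun α => ?_⟩
        have h1 := congrFun (congrArg Subtype.val hc₀) α
        have h2 : q (v α) = co e * x.1 α := congrFun (congrArg Subtype.val (hco e)) α
        change q (F α β) = c₀ * x.1 α at h1
        rw [h1, h2]
        linear_combination -(c₀ * x.1 α) * hci
    obtain ⟨pb, ub, hub, hpb⟩ := hqsurj γ
    have hu0 : coeff 0 ub ≠ 0 := fun h0 => hub (ProjDim.Graded.mem_irr.2 h0)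
    refine ⟨C (coeff 0 ub)⁻¹ * homogeneousComponent (D - e) pb,
      by simpa using (isHomogeneous_C (Fin (n + 1)) (coeff 0 ub)⁻¹).mul (homogeneousComponent_isHomogeneous (D - e) pb),
      fun α => ?_⟩
    have h0 : ub * F α β - v α * pb ∈ full G := (hq0 _).1 (by
      rw [map_sub, map_mul, map_mul, hγ α, ← hpb]; ring)
    have h1 := ProjDim.Graded.component_mem (full_hom G) h0 D
    rw [map_sub, Cone.component_mul _ (hF α β),
      Tilde.component_mul_left (homogeneousComponent_isHomogeneous e (w α))] at h1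
    have h2 := (full G).mul_mem_left (C (coeff 0 ub)⁻¹) h1
    rw [mul_sub, ← mul_assoc, ← map_mul, inv_mul_cancel₀ hu0, map_one, one_mul] at h2
    split at h2
    · rename_i hle'
      rw [if_pos hle']
      rwa [mul_left_comm] at h2
    · rename_i hle'
      rw [if_neg hle']
      simpa using h2
  choose b hb hbF using hcol
  by_cases he : e ≤ D
  · exact ⟨e, he, v, b, fun α => homogeneousComponent_isHomogeneous e (w α), hb,
      fun α β => by simpa [if_pos he] using hbF β α⟩
  · exfalso
    obtain ⟨i, hi⟩ := hne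
    obtain ⟨N, hN⟩ := hrad i
    refine hi N ?_
    rwa [sup_eq_left.2 (Ideal.span_le.2 (by
      rintro _ ⟨p, rfl⟩
      simpa [if_neg he] using hbF p.2 p.1))] at hN

end Groth.Agent.Lib.ProjCI.Factor
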