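import Groth.Agent.Lib.ProjCI.Struct
import Groth.Agent.Lib.LefPen45.Chart
import Groth.Agent.Lib.Kaehler.SmoothDim
import Groth.Agent.Lib.ZarCoh.Morph
import Groth.Agent.Lib.FlatCI.Exist

/-!
# Smooth hypersurfaces: the equation is nonzero; cohomology of the structure sheaf
-/

set_option autoImplicit false
universe u

open CategoryTheory CategoryTheory.Limits AlgebraicGeometry Opposite TopologicalSpace MvPolynomial
open Groth.Agent.Lib Groth.Agent.Lib.LefPen45 Groth.Agent.Lib.Curves.LES

noncomputable section

namespace Groth.Agent.Lib.ProjCI.Quadric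

variable {k : Type u} [Field k] {n d : ℕ}

/-- A smooth hypersurface of dimension `n` in `P^{n+1}` has a nonzero equation. -/
theorem ne_zero_of_smooth (F : LefPen.Form (n + 1) k d)
    [SmoothOfRelativeDimension n ((LefPen.hypIdeal F).subschemeι ≫ CohB1.ProjSpace.toSpec (n + 1) k)] :
    F ≠ 0 := by
  intro hF
  let ι := (LefPen.hypIdeal F).subschemeι
  have hd : LefPen.dehom F (0 : Fin (n + 2)) = 0 := by
    subst hF
    unfold LefPen.dehom
    rw [show HomogeneousLocalization.Away.mk (CohB1.polyGrading (n + 1) k) (LefPen.X_mem (n + 1) k 0) d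
        (0 : LefPen.Form (n + 1) k d).1 (by rw [smul_eq_mul, mul_one]; exact (0 : LefPen.Form (n + 1) k d).2) = 0 from
      HomogeneousLocalization.val_injective _ (by
        rw [HomogeneousLocalization.Away.val_mk, HomogeneousLocalization.val_zero]
        exact Localization.mk_zero _)]
    exact map_zero _
  have hinj : Function.Injective (Chart.coords k ι (0 : Fin (n + 2))) := by
    have hker : RingHom.ker (ι.app (LefPen.chart (n + 1) k 0)).hom = ⊥ := by
      rw [(LefPen.hypIdeal F).ker_subschemeι_app (HypSheaf.chartAff k (0 : Fin (n + 2))),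
        HypSheaf.hypIdeal_chart, hd, Ideal.span_singleton_eq_bot]
    have hA : IsIso (Proj.awayToSection (CohB1.polyGrading (n + 1) k) (MvPolynomial.X (0 : Fin (n + 2)))) :=
      (Proj.basicOpenIsoAway (CohB1.polyGrading (n + 1) k) _ (ProjSpace.Charts.X_mem_one 0) one_pos).isIso_hom
    exact (((RingHom.injective_iff_ker_eq_bot _).2 hker).comp
      (ConcreteCategory.bijective_of_isIso
        (Proj.awayToSection (CohB1.polyGrading (n + 1) k) (MvPolynomial.X (0 : Fin (n + 2))))).1).comp
      (ProjSpace.Charts.chartEquiv k 0).injective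
  let e : MvPolynomial (Fin (n + 1)) k ≃ₐ[k] Chart.Coord k ι 0 :=
    AlgEquiv.ofBijective _ ⟨hinj, Chart.coords_surjective k ι 0⟩
  obtain ⟨s, hs, hP⟩ := Chart.locally_coord k ι (n := n) (0 : Fin (n + 2))
  obtain ⟨m, hm⟩ := Ideal.exists_maximal (MvPolynomial (Fin (n + 1)) k)
  let mA : Ideal (Chart.Coord k ι 0) := m.comap e.symm.toRingEquiv
  haveI hmA : mA.IsMaximal := Ideal.comap_isMaximal_of_surjective _ e.symm.surjective
  obtain ⟨t, hts, htm⟩ : ∃ t ∈ s, t ∉ mA := by
    by_contra hc
    simp only [not_exists, not_and, not_not] at hc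
    exact hmA.ne_top (top_le_iff.1 (hs ▸ Ideal.span_le.2 fun t ht => hc t ht))
  let L := Localization.Away t
  haveI hL : Algebra.IsStandardSmoothOfRelativeDimension n k L := by
    have h : RingHom.IsStandardSmoothOfRelativeDimension n (algebraMap k L) := by
      rw [IsScalarTower.algebraMap_eq k (Chart.Coord k ι 0) L]
      exact hP t hts
    exact (RingHom.isStandardSmoothOfRelativeDimension_algebraMap n).1 h
  haveI : Algebra.IsStandardSmooth k L := Algebra.IsStandardSmoothOfRelativeDimension.isStandardSmooth n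
  haveI : Algebra.FiniteType k L := inferInstance
  have hdisj : Disjoint ((Submonoid.powers t : Submonoid (Chart.Coord k ι 0)) : Set (Chart.Coord k ι 0)) (mA : Set (Chart.Coord k ι 0)) :=
    Set.disjoint_left.2 fun x ⟨j, hj⟩ hx => htm (hmA.isPrime.mem_of_pow_mem j (by rw [show t ^ j = x from hj]; exact hx))
  haveI hmL : (mA.map (algebraMap (Chart.Coord k ι 0) L)).IsMaximal := by
    obtain ⟨M, hM, hle⟩ := Ideal.exists_le_maximal _
      ((IsLocalization.isPrime_of_isPrime_disjoint (Submonoid.powers t) L mA hmA.isPrime hdisj).ne_top)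
    have hMA : M.comap (algebraMap (Chart.Coord k ι 0) L) = mA :=
      (hmA.eq_of_le (Ideal.comap_ne_top _ hM.ne_top) (Ideal.map_le_iff_le_comap.1 hle)).symm
    rw [← hMA, IsLocalization.map_comap (Submonoid.powers t) L]
    exact hM
  have h1 : mA.height = ((n + 1 : ℕ) : ℕ∞) := by
    rw [show mA.height = m.height from RingEquiv.height_comap e.symm.toRingEquiv m,
      Dim.Local.height_maximal k m, FlatCI.Exist.trdegNat_mvPolynomial]
  have h2 : (mA.map (algebraMap (Chart.Coord k ι 0) L)).height = (n : ℕ∞) := by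
    rw [Dim.Local.height_maximal_eq_dimAt k, Kaehler.SmoothDim.dimAt_eq (n := n) k]
  rw [IsLocalization.height_map_of_disjoint (Submonoid.powers t) mA hdisj, h1] at h2
  exact absurd (ENat.coe_inj.1 h2) (Nat.succ_ne_self n)

end Groth.Agent.Lib.ProjCI.Quadric
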