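import Groth.Agent.Lib.ProjCI.Struct
import Groth.Agent.Lib.Ideal.Comap
import Groth.Agent.Lib.PushClosed.Basic
import Groth.Agent.Lib.Cyc.Dev.Scheme

/-!
# The last step of a complete intersection
-/

set_option autoImplicit false
universe u

open CategoryTheory CategoryTheory.Limits AlgebraicGeometry Opposite TopologicalSpace
open Groth.Agent.Lib Groth.Agent.Lib.CohBasics.Affine

noncomputable section

namespace Groth.Agent.Lib.ProjCI.Step

open Tilde Cone Ident

variable {k : Type u} [Field k] {n r : ℕ} {a : Fin (r + 1) → ℕ} (G : ∀ j : Fin (r + 1), LefPen.Form n k (a j))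

local notation "S" => MvPolynomial (Fin (n + 1)) k

/-- All forms but the last. -/
abbrev init : ∀ j : Fin r, LefPen.Form n k (a j.castSucc) := fun j => G j.castSucc

theorem pre_init {j : ℕ} (hj : j ≤ r) : pre (init G) j = pre G j := by
  rw [pre, pre]
  congr 1
  ext f
  exact ⟨fun ⟨l, hl, h⟩ => ⟨l.castSucc, hl, h⟩,
    fun ⟨l, hl, h⟩ => ⟨⟨l.1, by omega⟩, hl, h⟩⟩

theorem full_eq : full G = full (init G) ⊔ Ideal.span {(G (Fin.last r)).1} := by
  rw [← pre_self, ← pre_self (init G), pre_init G le_rfl, pre_succ G (Nat.lt_succ_self r)]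
  rfl

theorem reg_init (hreg : Reg G) : Reg (init G) := fun j hj i x hx h => by
  rw [pre_init G hj.le] at h ⊢
  exact hreg j (by omega) i x hx h

/-- The ideal of `X` in `Y` is `ι_Y^* O(-a_r)`. -/
theorem nonempty_iso (hreg : Reg G) :
    Nonempty (_root_.ClSub.idealMod ((LefPen.hypIdeal (G (Fin.last r))).comap (LefPen.ciIdeal (init G)).subschemeι) ≅
      (Scheme.Modules.pullback (LefPen.ciIdeal (init G)).subschemeι).obj
        (Twist.twistProjSpace n k (-(a (Fin.last r) : ℤ)))) := by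
  let ι := (LefPen.ciIdeal (init G)).subschemeι
  let J := (LefPen.hypIdeal (G (Fin.last r))).comap ι
  have hreg' := reg_init G hreg
  haveI : (Scheme.Modules.pushforward ι).IsLeftAdjoint := PushClosed.Basic.pushforward_isLeftAdjoint ι
  obtain ⟨e1, he1⟩ := Struct.exists_iso_quot hreg'
  let q : _root_.ClSub.quotMod (LefPen.ciIdeal (init G)) ⟶ (Scheme.Modules.pushforward ι).obj (_root_.ClSub.quotMod J) :=
    (Scheme.Modules.pushforward ι).map (_root_.ClSub.toSubscheme J)
  let p := _root_.ClSub.toSubscheme (LefPen.ciIdeal (init G)) ≫ q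
  haveI : Epi (_root_.ClSub.toSubscheme (LefPen.ciIdeal (init G))) := ClSub.Quot.epi_toSubscheme _
  haveI : Epi (_root_.ClSub.toSubscheme J) := ClSub.Quot.epi_toSubscheme _
  haveI : Epi q := inferInstanceAs (Epi ((Scheme.Modules.pushforward ι).map (_root_.ClSub.toSubscheme J)))
  haveI : Epi p := epi_comp _ _
  haveI := TensorMod.QCohInv.isQCoh_structureModule (CohB1.ProjSpace n k)
  haveI := TensorMod.QCohInv.isQCoh_structureModule J.subscheme
  haveI : (_root_.ClSub.quotMod J).IsQuasicoherent := QCoh.Pushforward.isQCoh_pushforward J.subschemeι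
  haveI : ((Scheme.Modules.pushforward ι).obj (_root_.ClSub.quotMod J)).IsQuasicoherent :=
    QCoh.Pushforward.isQCoh_pushforward ι
  haveI := (π_props hreg 0).2
  haveI := epi_π₀ hreg
  have key : ∀ (i : Fin (n + 1)) (σ : Γ(Coh.structureModule (CohB1.ProjSpace n k), LefPen.chart n k i)),
      p.app (LefPen.chart n k i) σ = 0 ↔ (π₀ (full G)).app (LefPen.chart n k i) σ = 0 := by
    intro i σ
    let D := LefPen45.HypSheaf.chartAff k (r := n) i
    let V : (LefPen.ciIdeal (init G)).subscheme.affineOpens := ⟨ι ⁻¹ᵁ D.1, D.2.preimage ι⟩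
    rw [π₀_app_eq_zero_iff]
    change J.subschemeι.app V.1 (ι.app D.1 σ) = 0 ↔ _
    rw [← RingHom.mem_ker, J.ker_subschemeι_app V, Ideal.Comap.ideal_comap ι _ D V le_rfl,
      ← Scheme.Hom.app_eq_appLE, LefPen45.HypSheaf.hypIdeal_chart]
    change (show Γ(CohB1.ProjSpace n k, D.1) from σ) ∈ Ideal.comap (ι.app D.1).hom (Ideal.map (ι.app D.1).hom _) ↔ _
    rw [Ideal.comap_map_of_surjective _ ((LefPen.ciIdeal (init G)).subschemeι_app_surjective D),
      ← RingHom.ker_eq_comap_bot, (LefPen.ciIdeal (init G)).ker_subschemeι_app D, ciIdeal_chart,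
      ← Ideal.span_union]
    have hset : {LefPen.dehom (G (Fin.last r)) i} ∪ (Set.range fun l => LefPen.dehom (init G l) i) =
        Set.range fun l => LefPen.dehom (G l) i := by
      ext f
      constructor
      · rintro (rfl | ⟨l, rfl⟩)
        · exact ⟨Fin.last r, rfl⟩
        · exact ⟨l.castSucc, rfl⟩
      · rintro ⟨l, rfl⟩
        rcases Fin.eq_castSucc_or_eq_last l with ⟨l, rfl⟩ | rfl
        · exact Or.inr ⟨l, rfl⟩
        · exact Or.inl rfl
    rw [hset]
  obtain ⟨e2, he2⟩ := exists_iso_of_kernel p (π₀ (full G)) key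
  have hle : full (init G) ≤ full G := (full_eq G).symm ▸ le_sup_left
  have hπ : π₀ (full (init G)) ≫ quotT hle 0 = π₀ (full G) :=
    (Category.assoc _ _ _).trans (congrArg (_ ≫ ·) ((Category.assoc _ _ _).trans (congrArg (_ ≫ ·)
      ((Category.assoc _ _ _).trans (congrArg (_ ≫ ·) (quotT_comp _ _ _))))))
  have w : q ≫ e2.hom = e1.hom ≫ quotT hle 0 := by
    rw [← cancel_epi (_root_.ClSub.toSubscheme (LefPen.ciIdeal (init G))), ← Category.assoc, he2,
      ← Category.assoc, he1, hπ]
  obtain ⟨K⟩ : Nonempty (kernel (quotT hle 0) ≅ T (full (init G)) (a (Fin.last r)) 0) := by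
    obtain ⟨f, w, hS⟩ := exists_ses (I := full (init G)) (g := (G (Fin.last r)).1) (d := a (Fin.last r))
      (full_hom (init G)) (form_isHomogeneous _) (fun i x hx h => by
        rw [← pre_self (init G), pre_init G le_rfl] at h ⊢
        exact hreg r (Nat.lt_succ_self r) i x hx h) 0
    have : ∀ (M : Ideal S) (h : full (init G) ≤ M), M = full (init G) ⊔ Ideal.span {(G (Fin.last r)).1} →
        Nonempty (kernel (quotT h 0) ≅ T (full (init G)) (a (Fin.last r)) 0) := by
      rintro M h rfl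
      exact ⟨IsLimit.conePointUniqueUpToIso (kernelIsKernel _) hS.fIsKernel⟩
    exact this _ hle (full_eq G)
  obtain ⟨e3, -⟩ := exists_iso hreg' (-(a (Fin.last r) : ℤ))
  let E : (Scheme.Modules.pushforward ι).obj (_root_.ClSub.idealMod J) ≅
      (Scheme.Modules.pushforward ι).obj ((Scheme.Modules.pullback ι).obj
        (Twist.twistProjSpace n k (-(a (Fin.last r) : ℤ)))) :=
    PreservesKernel.iso (Scheme.Modules.pushforward ι) (_root_.ClSub.toSubscheme J) ≪≫
      kernel.mapIso q (quotT hle 0) e1 e2 w ≪≫ K ≪≫ shiftIso _ _ 0 ≪≫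
      eqToIso (by rw [zero_sub]) ≪≫ e3.symm
  haveI h1 := Cyc.Dev.SchemeCase.isIso_counit ι (_root_.ClSub.idealMod J)
  haveI h2 := Cyc.Dev.SchemeCase.isIso_counit ι ((Scheme.Modules.pullback ι).obj
    (Twist.twistProjSpace n k (-(a (Fin.last r) : ℤ))))
  exact ⟨(@asIso _ _ _ _ _ h1).symm ≪≫ (Scheme.Modules.pullback ι).mapIso E ≪≫ @asIso _ _ _ _ _ h2⟩

end Groth.Agent.Lib.ProjCI.Step
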