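import Groth.Agent.Lib.ProjCI.Cone
import Groth.Agent.Lib.ProjTildeExact.PolyReg
import Groth.Agent.Lib.Curves.LES

/-!
# The sheaves of `(S/I)(m)` for homogeneous ideals `I` and their cohomology along a regular sequence
-/

set_option autoImplicit false
universe u

open CategoryTheory CategoryTheory.Limits AlgebraicGeometry MvPolynomial
open Groth.Agent.Lib

noncomputable section

namespace Groth.Agent.Lib.ProjCI.Tilde

variable {k : Type u} [Field k] {n : ℕ}

local notation "S" => MvPolynomial (Fin (n + 1)) k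
local notation "𝒢" => CohB1.polyGrading n k

/-- The pieces of `(S/I)(-a)`. -/
def piece (I : Ideal S) (a i : ℕ) : Submodule k (S ⧸ I) :=
  if a ≤ i then (CohB1.polyGrading n k (i - a)).map (Ideal.Quotient.mkₐ k I).toLinearMap else ⊥

theorem mk_mem_piece {I : Ideal S} {a i : ℕ} {p : S} (h : a ≤ i) (hp : p.IsHomogeneous (i - a)) :
    Ideal.Quotient.mk I p ∈ piece I a i := by
  rw [piece, if_pos h]
  exact ⟨p, (mem_homogeneousSubmodule _ _).2 hp, rfl⟩

theorem mk_mem_piece_zero {I : Ideal S} {i : ℕ} {p : S} (hp : p.IsHomogeneous i) :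
    Ideal.Quotient.mk I p ∈ piece I 0 i :=
  mk_mem_piece (Nat.zero_le _) (by simpa using hp)

theorem piece_cases {I : Ideal S} {a i : ℕ} {x : S ⧸ I} (hx : x ∈ piece I a i) :
    x = 0 ∨ (a ≤ i ∧ ∃ p : S, p.IsHomogeneous (i - a) ∧ Ideal.Quotient.mk I p = x) := by
  rw [piece] at hx
  split at hx
  case isTrue h =>
    obtain ⟨p, hp, rfl⟩ := hx
    exact Or.inr ⟨h, p, (mem_homogeneousSubmodule _ _).1 hp, rfl⟩
  case isFalse => exact Or.inl ((Submodule.mem_bot k).1 hx)

theorem exists_rep {I : Ideal S} {i : ℕ} {x : S ⧸ I} (hx : x ∈ piece I 0 i) :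
    ∃ p : S, p.IsHomogeneous i ∧ Ideal.Quotient.mk I p = x := by
  rw [piece, if_pos (Nat.zero_le _)] at hx
  obtain ⟨p, hp, rfl⟩ := hx
  exact ⟨p, by simpa using (mem_homogeneousSubmodule _ _).1 hp, rfl⟩

theorem smul_mk {I : Ideal (MvPolynomial (Fin (n + 1)) k)} (p q : MvPolynomial (Fin (n + 1)) k) :
    p • Ideal.Quotient.mk I q = Ideal.Quotient.mk I (p * q) := rfl

instance gradedSMul (I : Ideal S) (a : ℕ) : SetLike.GradedSMul 𝒢 (piece I a) where
  smul_mem := fun {i j p x} hp hx => by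
    rcases piece_cases hx with rfl | ⟨h, q, hq, rfl⟩
    · rw [smul_zero]; exact Submodule.zero_mem _
    · change Ideal.Quotient.mk I (p * q) ∈ _
      refine mk_mem_piece (by simp only [vadd_eq_add]; omega) ?_
      have := ((mem_homogeneousSubmodule _ _).1 hp).mul hq
      simp only [vadd_eq_add]
      rwa [show i + j - a = i + (j - a) by omega]

theorem component_mul_left {g : S} {d : ℕ} (hg : g.IsHomogeneous d) (q : S) (m : ℕ) :
    homogeneousComponent m (g * q) = if d ≤ m then g * homogeneousComponent (m - d) q else 0 := by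
  conv_lhs => rw [← sum_homogeneousComponent q]
  rw [Finset.mul_sum, map_sum]
  have key : ∀ i, homogeneousComponent m (g * homogeneousComponent i q) =
      if m = d + i then g * homogeneousComponent i q else 0 := fun i =>
    homogeneousComponent_of_mem (hg.mul (homogeneousComponent_isHomogeneous i q))
  simp only [key]
  split
  case isTrue h =>
    rw [Finset.sum_eq_single (m - d)]
    · rw [if_pos (by omega)]
    · intro i _ hi; rw [if_neg (by omega)]
    · intro hni
      rw [if_pos (by omega), homogeneousComponent_eq_zero _ _ (by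
        simp only [Finset.mem_range, not_lt] at hni; omega), mul_zero]
  case isFalse h => exact Finset.sum_eq_zero fun i _ => if_neg (by omega)

/-- The sheaf of `(S/I)(m - a)`. -/
abbrev T (I : Ideal S) (a : ℕ) (m : ℤ) : (CohB1.ProjSpace n k).Modules :=
  GrTilde.tilde 𝒢 (piece I a) m

/-- The quotient map. -/
def quotLin {I J : Ideal S} (h : I ≤ J) : (S ⧸ I) →ₗ[S] (S ⧸ J) := Submodule.mapQ I J LinearMap.id h

theorem quotLin_mk {I J : Ideal S} (h : I ≤ J) (p : S) :
    quotLin h (Ideal.Quotient.mk I p) = Ideal.Quotient.mk J p := rfl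

theorem shift_quot {I J : Ideal S} (h : I ≤ J) (m : ℤ) :
    ProjTildeExact.Shift (piece I 0) (piece J 0) (quotLin h) 0 m := fun i x hx _ _ => by
  obtain ⟨p, hp, rfl⟩ := exists_rep hx
  exact Or.inl ⟨i, (add_zero _).symm, by rw [quotLin_mk]; exact mk_mem_piece_zero hp⟩

/-- The projection `(S/I)(m)~ ⟶ (S/J)(m)~`. -/
def quotT {I J : Ideal S} (h : I ≤ J) (m : ℤ) : T I 0 m ⟶ T J 0 m :=
  ProjTildeExact.tildeMap (quotLin h) (shift_quot h m) (add_zero m).symm

theorem quotT_comp {I J K : Ideal S} (h : I ≤ J) (h' : J ≤ K) (m : ℤ) :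
    quotT h m ≫ quotT h' m = quotT (h.trans h') m := by
  have e : (quotLin h').comp (quotLin h) = quotLin (h.trans h') :=
    LinearMap.ext fun x => by obtain ⟨p, rfl⟩ := Ideal.Quotient.mk_surjective x; rfl
  exact ProjTildeExact.tilde_hom_ext fun U σ x =>
    (ProjTildeExact.locMap_comp_apply (quotLin h) (quotLin h') x.1 _).trans
      (congrArg (fun φ => ProjTildeExact.locMap φ x.1 _) e)

theorem locMap_id {R : Type u} [Field R] {M : Type u} [AddCommGroup M] [Module R M]
    [Module (MvPolynomial (Fin (n + 1)) R) M]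
    {f : M →ₗ[MvPolynomial (Fin (n + 1)) R] M} (hf : f = LinearMap.id)
    (x : ProjectiveSpectrum (CohB1.polyGrading n R)) (q : GrTilde.LocMod (CohB1.polyGrading n R) (M := M) x) :
    ProjTildeExact.locMap f x q = q := by
  subst hf
  induction q using LocalizedModule.induction_on with
  | h a s => rw [ProjTildeExact.locMap_mk, LinearMap.id_apply]

theorem quotT_self (I : Ideal S) (m : ℤ) : quotT (le_refl I) m = 𝟙 _ :=
  ProjTildeExact.tilde_hom_ext fun U σ x => locMap_id
    (LinearMap.ext fun a => by obtain ⟨p, rfl⟩ := Ideal.Quotient.mk_surjective a; rfl) x.1 _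

section Step

variable {I : Ideal (MvPolynomial (Fin (n + 1)) k)} {g : MvPolynomial (Fin (n + 1)) k} {d : ℕ}

theorem eq_zero_of_smul (hI : I.IsHomogeneous 𝒢) (hg : g.IsHomogeneous d)
    (hnzd : ∀ (i : ℕ) (x : S), x.IsHomogeneous i → g * x ∈ I → x ∈ I) {x : S} (hx : g * x ∈ I) :
    x ∈ I := by
  rw [← sum_homogeneousComponent x]
  refine Ideal.sum_mem _ fun i _ => hnzd i _ (homogeneousComponent_isHomogeneous i x) ?_
  have := ProjDim.Graded.component_mem hI hx (d + i)
  rwa [component_mul_left hg, if_pos (Nat.le_add_right d i), Nat.add_sub_cancel_left] at this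

theorem shift_mul (hg : g.IsHomogeneous d) (m : ℤ) :
    ProjTildeExact.Shift (piece I d) (piece I 0) ((g • LinearMap.id : (S ⧸ I) →ₗ[S] (S ⧸ I))) 0 m := fun i x hx _ _ => by
  rcases piece_cases hx with rfl | ⟨h, q, hq, rfl⟩
  · exact Or.inr (map_zero _)
  · refine Or.inl ⟨i, (add_zero _).symm, ?_⟩
    rw [LinearMap.smul_apply, LinearMap.id_apply, smul_mk]
    refine mk_mem_piece_zero ?_
    have := hg.mul hq
    rwa [show d + (i - d) = i by omega] at this

/-- `0 ⟶ (S/I)(m-d)~ ⟶ (S/I)(m)~ ⟶ (S/(I+(g)))(m)~ ⟶ 0`. -/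
theorem exists_ses (hI : I.IsHomogeneous 𝒢) (hg : g.IsHomogeneous d)
    (hnzd : ∀ (i : ℕ) (x : S), x.IsHomogeneous i → g * x ∈ I → x ∈ I) (m : ℤ) :
    ∃ (f : T I d m ⟶ T I 0 m) (w : f ≫ quotT (le_sup_left : I ≤ I ⊔ Ideal.span {g}) m = 0),
      (ShortComplex.mk f (quotT le_sup_left m) w).ShortExact := by
  have hJ : (I ⊔ Ideal.span {g}).IsHomogeneous 𝒢 :=
    hI.sup (Ideal.homogeneous_span _ _ fun x hx => ⟨d, by
      rw [Set.mem_singleton_iff.1 hx]; exact (mem_homogeneousSubmodule _ _).2 hg⟩)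
  have hw : (quotLin (le_sup_left : I ≤ I ⊔ Ideal.span {g})).comp (g • LinearMap.id) = 0 :=
    LinearMap.ext fun x => by
      obtain ⟨p, rfl⟩ := Ideal.Quotient.mk_surjective x
      rw [LinearMap.comp_apply, LinearMap.smul_apply, LinearMap.id_apply, smul_mk, quotLin_mk]
      exact Ideal.Quotient.eq_zero_iff_mem.2
        (Ideal.mul_mem_right _ _ (Submodule.mem_sup_right (Ideal.mem_span_singleton_self g)))
  refine ⟨_, _, ProjTildeExact.shortExact_tilde ((g • LinearMap.id : (S ⧸ I) →ₗ[S] (S ⧸ I))) _ (shift_mul hg m)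
    (shift_quot le_sup_left m) ?_ hw ?_ ?_ ?_⟩
  · rw [injective_iff_map_eq_zero]
    intro x hx
    obtain ⟨p, rfl⟩ := Ideal.Quotient.mk_surjective x
    rw [LinearMap.smul_apply, LinearMap.id_apply, smul_mk,
      Ideal.Quotient.eq_zero_iff_mem] at hx
    exact Ideal.Quotient.eq_zero_iff_mem.2 (eq_zero_of_smul hI hg hnzd hx)
  · intro i x hx h0
    obtain ⟨p, hp, rfl⟩ := exists_rep hx
    rw [quotLin_mk, Ideal.Quotient.eq_zero_iff_mem] at h0
    obtain ⟨s, hs, t, ht, rfl⟩ := Submodule.mem_sup.1 h0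
    obtain ⟨q, rfl⟩ := Ideal.mem_span_singleton'.1 ht
    have hst : homogeneousComponent i (s + q * g) = s + q * g := homogeneousComponent_eq_self hp
    rw [map_add, mul_comm q g, component_mul_left hg] at hst
    have hsi : homogeneousComponent i s ∈ I := ProjDim.Graded.component_mem hI hs i
    rcases le_or_gt d i with hdi | hdi
    · rw [if_pos hdi] at hst
      refine ⟨_, mk_mem_piece hdi (homogeneousComponent_isHomogeneous (i - d) q), ?_⟩
      rw [LinearMap.smul_apply, LinearMap.id_apply, smul_mk,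
        Ideal.Quotient.eq, mul_comm q g, ← hst]
      simpa using neg_mem hsi
    · rw [if_neg (not_le.2 hdi), add_zero] at hst
      refine ⟨0, Submodule.zero_mem _, ?_⟩
      rw [map_zero, eq_comm, Ideal.Quotient.eq_zero_iff_mem, mul_comm q g, ← hst]
      exact hsi
  · intro i x hx
    obtain ⟨p, hp, rfl⟩ := exists_rep hx
    exact ⟨_, mk_mem_piece_zero hp, rfl⟩
  · intro i x hx v hv e
    obtain ⟨p, hp, rfl⟩ := exists_rep hx
    rw [smul_mk, Ideal.Quotient.eq_zero_iff_mem] at hv ⊢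
    have := ProjDim.Graded.component_mem hJ hv (i + e)
    rw [mul_comm v p, component_mul_left hp, if_pos (Nat.le_add_right i e), Nat.add_sub_cancel_left] at this
    rw [ProjDim.Graded.decompose_apply, mul_comm]
    exact this

/-- `(S/I)(-d)(m)~ ≅ (S/I)(m-d)~`. -/
def shiftIso (I : Ideal S) (d : ℕ) (m : ℤ) : T I d m ≅ T I 0 (m - d) where
  hom := ProjTildeExact.tildeMap (LinearMap.id (R := S) (M := S ⧸ I)) (c := -(d : ℤ))
    (fun i x hx _ _ => by
      rcases piece_cases hx with rfl | ⟨h, q, hq, rfl⟩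
      · exact Or.inr (map_zero _)
      · exact Or.inl ⟨i - d, by omega, mk_mem_piece_zero hq⟩) (by omega)
  inv := ProjTildeExact.tildeMap (LinearMap.id (R := S) (M := S ⧸ I)) (c := (d : ℤ))
    (fun i x hx _ _ => by
      obtain ⟨q, hq, rfl⟩ := exists_rep hx
      exact Or.inl ⟨i + d, by omega, mk_mem_piece (Nat.le_add_left _ _) (by simpa using hq)⟩) (by omega)
  hom_inv_id := ProjTildeExact.tilde_hom_ext fun U σ x =>
    (ProjTildeExact.locMap_comp_apply _ _ x.1 _).trans (locMap_id (LinearMap.ext fun _ => rfl) x.1 _)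
  inv_hom_id := ProjTildeExact.tilde_hom_ext fun U σ x =>
    (ProjTildeExact.locMap_comp_apply _ _ x.1 _).trans (locMap_id
      (LinearMap.ext fun z => by obtain ⟨p, rfl⟩ := Ideal.Quotient.mk_surjective z; rfl) x.1 _)

end Step

/-- `(S/0)(m)~ ≅ O(m)`. -/
def botIso (m : ℤ) : ProjCoh.Sections.TS n k m ≅ T (⊥ : Ideal S) 0 m where
  hom := ProjTildeExact.tildeMap (Submodule.mkQ (⊥ : Ideal S))
    (fun i x hx _ _ => Or.inl ⟨i, (add_zero _).symm,
      mk_mem_piece_zero ((mem_homogeneousSubmodule _ _).1 hx)⟩) (add_zero m).symm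
  inv := ProjTildeExact.tildeMap ((Submodule.quotEquivOfEqBot _ rfl).toLinearMap : (S ⧸ (⊥ : Ideal S)) →ₗ[S] S)
    (fun i x hx _ _ => Or.inl ⟨i, (add_zero _).symm, by
      obtain ⟨q, hq, rfl⟩ := exists_rep hx
      exact (mem_homogeneousSubmodule _ _).2 hq⟩) (add_zero m).symm
  hom_inv_id := ProjTildeExact.tilde_hom_ext fun U σ x =>
    (ProjTildeExact.locMap_comp_apply _ _ x.1 _).trans (locMap_id (LinearMap.ext fun _ => rfl) x.1 _)
  inv_hom_id := ProjTildeExact.tilde_hom_ext fun U σ x =>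
    (ProjTildeExact.locMap_comp_apply _ _ x.1 _).trans (locMap_id
      (LinearMap.ext fun z => by obtain ⟨p, rfl⟩ := Ideal.Quotient.mk_surjective z; rfl) x.1 _)

end Groth.Agent.Lib.ProjCI.Tilde
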