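import Groth.Agent.Lib.ProjCI.Cohom
import Groth.Agent.Lib.ProjCoh.Top

/-!
# The top cohomology of the twists of a complete intersection
-/

set_option autoImplicit false
universe u

open CategoryTheory CategoryTheory.Limits AlgebraicGeometry MvPolynomial
open Groth.Agent.Lib Groth.Agent.Lib.Curves.LES

noncomputable section

namespace Groth.Agent.Lib.ProjCI.TopTwist

open Tilde Cone Cohom

variable {k : Type u} [Field k] {n r : ℕ} {a : Fin r → ℕ} {G : ∀ j : Fin r, LefPen.Form n k (a j)}

local notation "S" => MvPolynomial (Fin (n + 1)) k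

/-- The last twist with nonzero top cohomology. -/
def crit (n : ℕ) (a : Fin r → ℕ) (j : ℕ) : ℤ :=
  (∑ l ∈ Finset.univ.filter (fun l : Fin r => l.1 < j), (a l : ℤ)) - ((n : ℤ) + 1)

theorem crit_zero : crit n a 0 = -((n : ℤ) + 1) := by simp [crit]

theorem crit_succ {j : ℕ} (hj : j < r) : crit n a (j + 1) = crit n a j + a ⟨j, hj⟩ := by
  have : Finset.univ.filter (fun l : Fin r => l.1 < j + 1) =
      insert ⟨j, hj⟩ (Finset.univ.filter fun l : Fin r => l.1 < j) := by
    ext l; simp [Fin.ext_iff]; omega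
  rw [crit, crit, this, Finset.sum_insert (by simp)]
  ring

theorem crit_self : crit n a r = (∑ l, (a l : ℤ)) - ((n : ℤ) + 1) := by
  rw [crit, Finset.filter_true_of_mem fun l _ => l.2]

theorem top (hreg : Reg G) (ha : ∀ j, 1 ≤ a j) : ∀ j : ℕ, j ≤ r → j < n →
    (∀ m, crit n a j < m → Subsingleton (Coh.HH (CohB1.ProjSpace n k) (T (pre G j) 0 m) (n - j))) ∧
    Nontrivial (Coh.HH (CohB1.ProjSpace n k) (T (pre G j) 0 (crit n a j)) (n - j)) := by
  intro j
  induction j with
  | zero =>
    intro _ hn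
    refine ⟨fun m hm => ?_, ?_⟩
    · rw [crit_zero] at hm
      haveI := ProjCoh.Twist.subsingleton_HH_of_neg_le n k (d := m) (by omega) (q := n - 0) (by omega)
      exact (isoK k (botIso (k := k) (n := n) m ≪≫ eqToIso (T_congr (pre_zero G).symm m)) _).symm.injective.subsingleton
    · let e := isoK k (botIso (k := k) (n := n) (-((n : ℤ) + 1)) ≪≫
        eqToIso (T_congr (pre_zero G).symm _)) n
      haveI : Nontrivial (Coh.HH (CohB1.ProjSpace n k) (ProjCoh.Sections.TS n k (-((n : ℤ) + 1))) n) :=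
        ⟨⟨ProjCoh.Top.cl (ProjCoh.Top.negOne n) ProjCoh.Top.neg_negOne, 0, fun h => by
          have h' := congrArg (ProjCoh.Top.res (ProjCoh.Top.negOne n) ProjCoh.Top.neg_negOne) h
          simp [ProjCoh.Top.res_cl] at h'⟩⟩
      rw [crit_zero]
      exact e.injective.nontrivial
  | succ j ih =>
    intro hj hn
    have hjr : j < r := by omega
    obtain ⟨ihs, ihn⟩ := ih (by omega) (by omega)
    let g : S := (G ⟨j, hjr⟩).1
    let d := a ⟨j, hjr⟩
    have hd : 1 ≤ d := ha _
    have hc : crit n a (j + 1) = crit n a j + d := crit_succ hjr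
    have hp : n - j = n - (j + 1) + 1 := by omega
    suffices hmain : ∀ (J : Ideal S), J = pre G j ⊔ Ideal.span {g} →
        (∀ m, crit n a (j + 1) < m → Subsingleton (Coh.HH (CohB1.ProjSpace n k) (T J 0 m) (n - (j + 1)))) ∧
        Nontrivial (Coh.HH (CohB1.ProjSpace n k) (T J 0 (crit n a (j + 1))) (n - (j + 1))) from
      hmain _ (pre_succ G hjr)
    rintro J rfl
    refine ⟨fun m hm => ?_, ?_⟩
    · obtain ⟨f, w, hS⟩ := exists_ses (I := pre G j) (g := g) (d := d) (pre_hom G j) (form_isHomogeneous _)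
        (fun i x hx h => hreg j hjr i x hx h) m
      haveI h2 : Subsingleton (Coh.HH (CohB1.ProjSpace n k) (T (pre G j) 0 m) (n - (j + 1))) :=
        (vanish_and_surjective hreg j (by omega) m).1 _ (by omega) (by omega)
      haveI := ihs (m - d) (by omega)
      have h1 : Subsingleton (Coh.HH (CohB1.ProjSpace n k) (T (pre G j) d m) (n - j)) :=
        (isoK k (shiftIso (pre G j) d m) _).injective.subsingleton
      refine subsingleton_of_forall_eq 0 fun x => ?_
      obtain ⟨y, rfl⟩ := ((exactK₃ k hS _ _ hp.symm) x).1 (@Subsingleton.elim _ h1 _ _)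
      rw [Subsingleton.elim (α := Coh.HH (CohB1.ProjSpace n k) (T (pre G j) 0 m) (n - (j + 1))) y 0, map_zero]
    · obtain ⟨f, w, hS⟩ := exists_ses (I := pre G j) (g := g) (d := d) (pre_hom G j) (form_isHomogeneous _)
        (fun i x hx h => hreg j hjr i x hx h) (crit n a (j + 1))
      haveI h0 := ihs (crit n a (j + 1)) (by omega)
      haveI h1 : Nontrivial (Coh.HH (CohB1.ProjSpace n k) (T (pre G j) d (crit n a (j + 1))) (n - j)) := by
        have he : crit n a j = crit n a (j + 1) - d := by omega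
        rw [he] at ihn
        exact (isoK k (shiftIso (pre G j) d (crit n a (j + 1))) _).symm.injective.nontrivial
      obtain ⟨x, hx⟩ := exists_ne (0 : Coh.HH (CohB1.ProjSpace n k) (T (pre G j) d (crit n a (j + 1))) (n - j))
      obtain ⟨y, rfl⟩ := ((exactK₁ k hS _ _ hp.symm) x).1 (@Subsingleton.elim _ h0 _ _)
      exact ⟨⟨y, 0, fun h => hx (by rw [h, map_zero])⟩⟩

theorem subsingleton_full_top (hreg : Reg G) (ha : ∀ j, 1 ≤ a j) (hr : r < n) (m : ℤ)
    (hm : (∑ l, (a l : ℤ)) - ((n : ℤ) + 1) < m) :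
    Subsingleton (Coh.HH (CohB1.ProjSpace n k) (T (full G) 0 m) (n - r)) := by
  haveI := (top hreg ha r le_rfl hr).1 m (by rwa [crit_self])
  exact (isoK k (eqToIso (T_congr (pre_self G).symm m)) _).injective.subsingleton

theorem nontrivial_full_top (hreg : Reg G) (ha : ∀ j, 1 ≤ a j) (hr : r < n) :
    Nontrivial (Coh.HH (CohB1.ProjSpace n k) (T (full G) 0 ((∑ l, (a l : ℤ)) - ((n : ℤ) + 1))) (n - r)) := by
  have h := (top hreg ha r le_rfl hr).2
  rw [crit_self] at h
  exact (isoK k (eqToIso (T_congr (pre_self G) _)) _).injective.nontrivial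

end Groth.Agent.Lib.ProjCI.TopTwist
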